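import Cfsg.Agent.H38.HeisDeg.Setup
import Cfsg.Agent.H51.CentWord
import Cfsg.Agent.H37.Chev.Sign
import Cfsg.Agent.H37.Twist.Torus

/-!
Commutator rules for products along lists of roots, conjugation by torus elements and by Weyl
representatives.
-/
set_option autoImplicit false

namespace Cfsg.Agent.H38.HeisDeg

open Cfsg.Lie Cfsg.Agent.H37 Cfsg.Agent.H37.RootSys Cfsg.Agent.H37.Twist Cfsg.Agent.H37.NormalForm

variable {D : ChevalleyDatum} {K : Type*} [Field K] (Q : Chev.Data D K)

/-- The coefficient of `p` in the commutator of `a` and `b`, when it is linear. -/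
def kap (D : ChevalleyDatum) (p a b : ℕ) : ℤ :=
  match D.commTerms a b with
  | [(k, c, 1, 1)] => if k = p then c else 0
  | _ => 0

/-- Linear commutators with values in `P`. -/
def linB (D : ChevalleyDatum) (P : List ℕ) (a b : ℕ) : Bool :=
  decide (b ≠ a) && decide (b ≠ D.neg a) &&
    match D.commTerms a b with
    | [] => true
    | [(k, _, 1, 1)] => P.contains k
    | _ => false

/-- Bilinear commutators from `A × B` to the central list `P`. -/
def bilinB (D : ChevalleyDatum) (P A B : List ℕ) : Bool :=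
  commB D (A ++ P) && commB D (B ++ P) && decide P.Nodup && A.all fun a => B.all (linB D P a)

variable {Q}

theorem swap_lin {P : List ℕ} (hP : P.Nodup) (hlt : ∀ p ∈ P, p < D.nroots) {a b : ℕ}
    (ha : a < D.nroots) (hb : b < D.nroots) (h : linB D P a b = true) (t u : K) :
    xG Q.K K b u * xG Q.K K a t = xG Q.K K a t * xG Q.K K b u *
      xprod Q P (fun p => -((kap D p a b : K) * t * u)) := by
  simp only [linB, Bool.and_eq_true, decide_eq_true_eq] at h
  obtain ⟨⟨h1, h2⟩, h3⟩ := h
  rw [show xG Q.K K b u * xG Q.K K a t = _ from H51.CW.comm_list Q ha hb h1 h2 t u]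
  congr 1
  split at h3
  · next e =>
    have hz : ∀ p ∈ P, xG Q.K K p (-((kap D p a b : K) * t * u)) = 1 := fun p hp => by
      rw [kap, e]; simp only [Int.cast_zero, zero_mul, neg_zero]; exact Q.sys.x_zero' (hlt p hp)
    rw [e, List.map_nil, List.prod_nil, xprod,
      List.prod_eq_one fun g hg => by
        obtain ⟨p, hp, rfl⟩ := List.mem_map.1 hg
        exact hz p hp]
  · next k c e =>
    rw [List.contains_iff_mem] at h3
    rw [e, List.map_singleton, List.prod_singleton, xprod,
      List.prod_map_eq_pow_single k _ (fun p hp hpP => by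
        rw [kap, e]
        simp only [if_neg (Ne.symm hp), Int.cast_zero, zero_mul, neg_zero]
        exact Q.sys.x_zero' (hlt p hpP)),
      List.count_eq_one_of_mem hP h3, pow_one, kap, e]
    simp only [if_true, pow_one]
    show xG Q.K K k _ = xG Q.K K k _
    refine congrArg (xG Q.K K k) ?_
    ring
  · simp at h3

theorem commute_xprod {L : List ℕ} (hc : commB D L = true) {r : ℕ} (hr : r ∈ L) {P : List ℕ}
    (hP : ∀ p ∈ P, p ∈ L) (t : K) (v : ℕ → K) : Commute (xG Q.K K r t) (xprod Q P v) :=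
  Commute.list_prod_right _ _ fun g hg => by
    obtain ⟨p, hp, rfl⟩ := List.mem_map.1 hg
    exact commute_xG Q hc hr (hP p hp) _ _

/-- The commutator of two products along lists. -/
theorem xprod_swap {P A B : List ℕ} (h : bilinB D P A B = true) (u v : ℕ → K) :
    xprod Q B v * xprod Q A u = xprod Q A u * xprod Q B v *
      xprod Q P (fun p =>
        -(B.map fun b => (A.map fun a => (kap D p a b : K) * u a * v b).sum).sum) := by
  simp only [bilinB, Bool.and_eq_true, decide_eq_true_eq, List.all_eq_true] at h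
  obtain ⟨⟨⟨hA, hB⟩, hnd⟩, hlin⟩ := h
  have hcl : ∀ {L : List ℕ}, commB D L = true → ∀ r ∈ L, r < D.nroots := fun hL r hr => by
    simp only [commB, List.all_eq_true, Bool.and_eq_true, decide_eq_true_eq] at hL
    exact (hL r hr).1
  have hlt : ∀ p ∈ P, p < D.nroots := fun p hp => hcl hA p (List.mem_append_right _ hp)
  have hPc : commB D P = true := by
    simp only [commB, List.all_eq_true, Bool.and_eq_true] at hA ⊢
    exact fun r hr => ⟨(hA r (List.mem_append_right _ hr)).1,
      fun s hs => (hA r (List.mem_append_right _ hr)).2 s (List.mem_append_right _ hs)⟩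
  have padd := fun x y => xprod_add Q hPc hlt x y
  have pzero : xprod Q P (fun _ => 0) = 1 := by
    have e := padd (fun _ => 0) (fun _ => 0)
    simp only [add_zero] at e
    exact left_eq_mul.1 e
  have inner : ∀ b ∈ B, ∀ A' : List ℕ, (∀ a ∈ A', a ∈ A) →
      xG Q.K K b (v b) * xprod Q A' u = xprod Q A' u * xG Q.K K b (v b) *
        xprod Q P (fun p => -(A'.map fun a => (kap D p a b : K) * u a * v b).sum) := by
    intro b hb A'
    induction A' with
    | nil => intro _; simp [xprod_congr Q (L := P) (t' := fun _ => (0 : K)) fun _ _ => neg_zero,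
        pzero, show xprod Q [] u = 1 from rfl]
    | cons a A' ih =>
      intro hsub
      have ha := hsub a (by simp)
      have hcomm : Commute (xprod Q A' u)
          (xprod Q P (fun p => -((kap D p a b : K) * u a * v b))) :=
        Commute.list_prod_left _ _ fun g hg => by
          obtain ⟨r, hr, rfl⟩ := List.mem_map.1 hg
          exact commute_xprod hA (List.mem_append_left _ (hsub r (List.mem_cons_of_mem _ hr)))
            (fun p hp => List.mem_append_right _ hp) _ _
      rw [xprod_cons, ← mul_assoc,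
        swap_lin hnd hlt (hcl hA a (List.mem_append_left _ ha)) (hcl hB b (List.mem_append_left _ hb))
          (hlin a ha b hb), mul_assoc _ _ (xprod Q A' u), ← hcomm.eq, ← mul_assoc,
        mul_assoc (xG Q.K K a _) (xG Q.K K b _), ih fun r hr => hsub r (List.mem_cons_of_mem _ hr)]
      simp only [mul_assoc]
      rw [← padd]
      refine congrArg (_ * ·) (congrArg (_ * ·) (congrArg (_ * ·) (xprod_congr Q fun p _ => ?_)))
      simp only [List.map_cons, List.sum_cons]
      ring
  suffices ∀ B' : List ℕ, (∀ b ∈ B', b ∈ B) →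
      xprod Q B' v * xprod Q A u = xprod Q A u * xprod Q B' v *
        xprod Q P (fun p =>
          -(B'.map fun b => (A.map fun a => (kap D p a b : K) * u a * v b).sum).sum) from
    this B fun _ h => h
  intro B'
  induction B' with
  | nil => intro _; simp [xprod_congr Q (L := P) (t' := fun _ => (0 : K)) fun _ _ => neg_zero,
      pzero, show xprod Q [] v = 1 from rfl]
  | cons b B' ih =>
    intro hsub
    have hb := hsub b (by simp)
    have hcomm : Commute (xprod Q B' v)
        (xprod Q P (fun p => -(A.map fun a => (kap D p a b : K) * u a * v b).sum)) :=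
      Commute.list_prod_left _ _ fun g hg => by
        obtain ⟨r, hr, rfl⟩ := List.mem_map.1 hg
        exact commute_xprod hB (List.mem_append_left _ (hsub r (List.mem_cons_of_mem _ hr)))
          (fun p hp => List.mem_append_right _ hp) _ _
    rw [xprod_cons, mul_assoc, ih fun r hr => hsub r (List.mem_cons_of_mem _ hr), ← mul_assoc,
      ← mul_assoc, inner b hb A (fun _ h => h), mul_assoc (xprod Q A u * _) _ (xprod Q B' v),
      ← hcomm.eq]
    simp only [mul_assoc]
    rw [← padd]
    refine congrArg (_ * ·) (congrArg (_ * ·) (congrArg (_ * ·) (xprod_congr Q fun p _ => ?_)))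
    simp only [List.map_cons, List.sum_cons]
    ring

/-- Conjugation by the root elements of `l` carries `T0` into `T`. -/
def passB (D : ChevalleyDatum) (T0 T : List ℕ) (l : ℕ) : Bool :=
  decide (l < D.nroots) && T0.all fun r => decide (r < D.nroots) && T.contains r &&
    ((r == l) || (decide (r ≠ D.neg l) && (D.commTerms l r).all fun c => T.contains c.1))

/-- The root elements of `L` normalise `T`. -/
def normB (D : ChevalleyDatum) (L T : List ℕ) : Bool := L.all fun l => passB D T T l

/-- The root elements of `L` move `z` within `z T`. -/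
def shiftB (D : ChevalleyDatum) (z : ℕ) (L T : List ℕ) : Bool :=
  L.all fun l => decide (l < D.nroots) &&
    ((z == l) || (decide (z ≠ D.neg l) && (D.commTerms l z).all fun c => T.contains c.1))

theorem conj_x {l r : ℕ} (hl : l < D.nroots) (hr : r < D.nroots) (hlr : r ≠ l)
    (hn : r ≠ D.neg l) (u t : K) :
    (xG Q.K K l u)⁻¹ * xG Q.K K r t * xG Q.K K l u = xG Q.K K r t *
      ((D.commTerms l r).map fun c =>
        xG Q.K K c.1 ((c.2.1 : K) * (-u) ^ c.2.2.1 * t ^ c.2.2.2)).prod := by
  have e : xG Q.K K r t * xG Q.K K l u = xG Q.K K l u * xG Q.K K r t *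
      ((D.commTerms l r).map fun c =>
        xG Q.K K c.1 ((c.2.1 : K) * (-u) ^ c.2.2.1 * t ^ c.2.2.2)).prod :=
    H51.CW.comm_list Q hl hr hlr hn u t
  rw [mul_assoc, e, ← mul_assoc, ← mul_assoc, inv_mul_cancel, one_mul]

theorem pass_x {T0 T : List ℕ} {l : ℕ} (h : passB D T0 T l = true) (u : K) {g : ↥(D.group K)}
    (hg : g ∈ XS (xG Q.K K) {r | r ∈ T0}) :
    (xG Q.K K l u)⁻¹ * g * xG Q.K K l u ∈ XS (xG Q.K K) {r | r ∈ T} := by
  simp only [passB, Bool.and_eq_true, decide_eq_true_eq, List.all_eq_true, Bool.or_eq_true,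
    beq_iff_eq, List.contains_iff_mem] at h
  obtain ⟨hl, h⟩ := h
  have := conj_mem_XS (a := (xG Q.K K l u)⁻¹) (K := XS (xG Q.K K) {r | r ∈ T}) (fun r hr t => ?_) hg
  · rwa [inv_inv] at this
  obtain ⟨⟨hrn, hrT⟩, h'⟩ := h r hr
  rw [inv_inv]
  by_cases hrl : r = l
  · subst hrl
    rw [mul_assoc, show xG Q.K K r t * xG Q.K K r u = xG Q.K K r u * xG Q.K K r t from
      Subtype.ext (by
        show Q.K.xU K r t * Q.K.xU K r u = Q.K.xU K r u * Q.K.xU K r t
        rw [Q.K.xU_add, Q.K.xU_add, add_comm]), inv_mul_cancel_left]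
    exact x_mem_XS (S := {r | r ∈ T}) hrT t
  · obtain ⟨hn, hc⟩ := h'.resolve_left hrl
    rw [conj_x hl hrn hrl hn]
    refine mul_mem (x_mem_XS (S := {r | r ∈ T}) hrT t) (Subgroup.list_prod_mem _ fun y hy => ?_)
    obtain ⟨c, hc', rfl⟩ := List.mem_map.1 hy
    exact x_mem_XS (S := {r | r ∈ T}) (hc c hc') _

theorem norm_xprod {T : List ℕ} : ∀ (L : List ℕ), normB D L T = true → ∀ (u : ℕ → K)
    {g : ↥(D.group K)}, g ∈ XS (xG Q.K K) {r | r ∈ T} →
      (xprod Q L u)⁻¹ * g * xprod Q L u ∈ XS (xG Q.K K) {r | r ∈ T}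
  | [], _, u, g, hg => by simpa [xprod] using hg
  | l :: L, h, u, g, hg => by
      simp only [normB, List.all_cons, Bool.and_eq_true] at h
      have h' := norm_xprod L h.2 u (pass_x h.1 (u l) hg)
      rw [xprod_cons]
      convert h' using 1
      group

theorem shift_xprod {T : List ℕ} {z : ℕ} (hz : z < D.nroots) : ∀ (L : List ℕ),
    normB D L T = true → shiftB D z L T = true → ∀ (u : ℕ → K) (t : K),
      (xG Q.K K z t)⁻¹ * ((xprod Q L u)⁻¹ * xG Q.K K z t * xprod Q L u) ∈
        XS (xG Q.K K) {r | r ∈ T}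
  | [], _, _, u, t => by simp [xprod]
  | l :: L, h, hs, u, t => by
      simp only [normB, List.all_cons, Bool.and_eq_true] at h
      simp only [shiftB, List.all_cons, Bool.and_eq_true, decide_eq_true_eq, Bool.or_eq_true,
        beq_iff_eq] at hs
      have ih := shift_xprod hz L h.2 (by simpa [shiftB] using hs.2) u t
      obtain ⟨⟨hl, hcase⟩, -⟩ := hs
      set p := (xG Q.K K z t)⁻¹ * ((xG Q.K K l (u l))⁻¹ * xG Q.K K z t * xG Q.K K l (u l)) with hp
      have hpT : p ∈ XS (xG Q.K K) {r | r ∈ T} := by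
        by_cases hzl : z = l
        · subst hzl
          rw [hp, mul_assoc _ (xG Q.K K z t), show xG Q.K K z t * xG Q.K K z (u z) =
            xG Q.K K z (u z) * xG Q.K K z t from Subtype.ext (by
              show Q.K.xU K z t * Q.K.xU K z (u z) = Q.K.xU K z (u z) * Q.K.xU K z t
              rw [Q.K.xU_add, Q.K.xU_add, add_comm]), inv_mul_cancel_left, inv_mul_cancel]
          exact one_mem _
        · obtain ⟨hn, hc⟩ := hcase.resolve_left hzl
          simp only [List.all_eq_true, List.contains_iff_mem] at hc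
          rw [hp, conj_x hl hz hzl hn, inv_mul_cancel_left]
          refine Subgroup.list_prod_mem _ fun y hy => ?_
          obtain ⟨c, hc', rfl⟩ := List.mem_map.1 hy
          exact x_mem_XS (S := {r | r ∈ T}) (hc c hc') _
      rw [xprod_cons, show (xG Q.K K z t)⁻¹ * ((xG Q.K K l (u l) * xprod Q L u)⁻¹ *
          xG Q.K K z t * (xG Q.K K l (u l) * xprod Q L u)) =
        (xG Q.K K z t)⁻¹ * ((xprod Q L u)⁻¹ * xG Q.K K z t * xprod Q L u) *
          ((xprod Q L u)⁻¹ * p * xprod Q L u) by rw [hp]; group]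
      exact mul_mem ih (norm_xprod L h.2 u hpT)

theorem torus_mem {T : List ℕ} (hT : ∀ r ∈ T, r < D.nroots) (c : Fin D.rank → Kˣ)
    {g : ↥(D.group K)} (hg : g ∈ XS (xG Q.K K) {r | r ∈ T}) :
    (tG Q c)⁻¹ * g * tG Q c ∈ XS (xG Q.K K) {r | r ∈ T} := by
  rw [← map_inv]
  have := conj_mem_XS (a := tG Q c⁻¹) (K := XS (xG Q.K K) {r | r ∈ T}) (fun r hr t => ?_) hg
  · rw [map_inv] at this ⊢
    rwa [inv_inv] at this
  rw [tG_conj Q c⁻¹ (hT r hr)]
  exact x_mem_XS (S := {r | r ∈ T}) hr _

variable (Q) in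
/-- The representative of a word in the fundamental reflections. -/
def nw (ws : List ℕ) : ↥(D.group K) := (ws.map fun i => nUG Q (D.simple i) 1).prod

theorem coe_nw (ws : List ℕ) : (nw Q ws : GL D.Idx K) = (ws.map (Q.K.nS K)).prod := by
  rw [nw, Subgroup.val_list_prod, List.map_map]
  rfl

/-- The image of a root and its sign. -/
def img (D : ChevalleyDatum) (w : ℕ → ℕ → ℕ) (sg : ℕ → ℕ → ℤ) (ws : List ℕ) (r : ℕ) : ℕ × ℤ :=
  Chev.act2 w sg ws r

theorem nw_conj {ws : List ℕ} (hws : ∀ i ∈ ws, i < D.rank) {r : ℕ} (hr : r < D.nroots) (t : K) :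
    nw Q ws * xG Q.K K r t * (nw Q ws)⁻¹ =
      xG Q.K K (img D Q.K.w Q.K.sg ws r).1 (((img D Q.K.w Q.K.sg ws r).2 : K) * t) := by
  refine Subtype.ext ?_
  simp only [Subgroup.coe_mul, Subgroup.coe_inv, coe_nw]
  exact Chev.word_conj Q.K hws hr t

/-- The inverse of the word carries `T` into `T0`. -/
def backB (D : ChevalleyDatum) (w : ℕ → ℕ → ℕ) (sg : ℕ → ℕ → ℤ) (ws T T0 : List ℕ) : Bool :=
  (ws.all fun i => decide (i < D.rank)) && T.all fun r =>
    decide (r < D.nroots) && T0.contains (img D w sg ws.reverse r).1 &&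
      decide ((img D w sg ws.reverse r).1 < D.nroots) &&
      decide ((img D w sg ws (img D w sg ws.reverse r).1).1 = r)

theorem img_sq (ws : List ℕ) (r : ℕ) :
    (img D Q.K.w Q.K.sg ws r).2 * (img D Q.K.w Q.K.sg ws r).2 = 1 := by
  induction ws with
  | nil => simp [img, Chev.act2]
  | cons i ws ih =>
    simp only [img, Chev.act2, List.foldr_cons] at ih ⊢
    rcases Q.K.sg_pm i (List.foldr (fun i p => (Q.K.w i p.1, Q.K.sg i p.1 * p.2)) (r, 1) ws).1
      with h | h <;> rw [h] <;> linear_combination ih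

theorem nw_back {ws T T0 : List ℕ} (h : backB D Q.K.w Q.K.sg ws T T0 = true) {g : ↥(D.group K)}
    (hg : g ∈ XS (xG Q.K K) {r | r ∈ T}) :
    (nw Q ws)⁻¹ * g * nw Q ws ∈ XS (xG Q.K K) {r | r ∈ T0} := by
  simp only [backB, Bool.and_eq_true, decide_eq_true_eq, List.all_eq_true,
    List.contains_iff_mem] at h
  obtain ⟨hws, h⟩ := h
  have := conj_mem_XS (a := (nw Q ws)⁻¹) (K := XS (xG Q.K K) {r | r ∈ T0}) (fun r hr t => ?_) hg
  · rwa [inv_inv] at this
  obtain ⟨⟨⟨hrn, hr0⟩, hr1⟩, hback⟩ := h r hr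
  rw [inv_inv]
  set r' := (img D Q.K.w Q.K.sg ws.reverse r).1
  set s := (img D Q.K.w Q.K.sg ws r').2 with hs
  have e := nw_conj (Q := Q) hws hr1 ((s : K) * t)
  rw [hback, ← hs, ← mul_assoc, ← Int.cast_mul, hs, img_sq, Int.cast_one, one_mul] at e
  rw [← e, show ∀ a b : ↥(D.group K), a⁻¹ * (a * b * a⁻¹) * a = b from fun a b => by group]
  exact x_mem_XS (S := {r | r ∈ T0}) hr0 _

end Cfsg.Agent.H38.HeisDeg
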