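import Cfsg.Agent.H38.HeisDeg.Comm
import Cfsg.Agent.H38.D4Deg.Linear

/-!
Fixed vectors of fixed unipotent subgroups, and commutators of fixed elements.
-/
set_option autoImplicit false

namespace Cfsg.Agent.H38.HeisDeg

open Cfsg.Lie Cfsg.Agent.H37 Cfsg.Agent.H37.RootSys Cfsg.Agent.H37.Twist Cfsg.Agent.H37.NormalForm
open Module

variable {D : ChevalleyDatum} {K : Type*} [Field K] {Q : Chev.Data D K} {q : ℕ} (S : Setup Q q)

namespace Setup

/-- A fixed element moving a root by the given scalar. -/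
def TorusAt (z : ℕ) : Prop :=
  ∀ μ : Kˣ, S.φ (μ : K) = μ → ∃ c : Fin D.rank → Kˣ, S.σ (tG Q c) = tG Q c ∧ chT c z = μ

/-- The fixed field. -/
abbrev F : Subfield K := RingHom.eqLocusField S.φ (RingHom.id K)

theorem card_field : Nat.card S.F = q :=
  (Nat.card_congr (Equiv.subtypeEquivRight fun _ => Iff.rfl)).trans S.cardF

/-- Multiplication by a fixed scalar. -/
def mulF (L : List ℕ) (μ : S.F) : S.FV L →+ S.FV L :=
  AddMonoidHom.mk' (fun t => ⟨fun r => (μ : K) * (t : ℕ → K) r, S.FV_smul t.2 μ.2⟩)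
    (fun a b => Subtype.ext (funext fun r => by simp [mul_add]))

theorem mulF_apply (L : List ℕ) (μ : S.F) (t : S.FV L) (r : ℕ) :
    (S.mulF L μ t : ℕ → K) r = (μ : K) * (t : ℕ → K) r := rfl

instance [Finite K] (L : List ℕ) : Finite (S.FV L) :=
  Finite.of_injective (fun (t : S.FV L) (r : {r // r ∈ L.toFinset}) => (t : ℕ → K) r)
    fun a b e => Subtype.ext (funext fun r => by
      by_cases hr : r ∈ L
      · exact congrFun e ⟨r, List.mem_toFinset.2 hr⟩
      · rw [a.2.1 r hr, b.2.1 r hr])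

theorem FV_ext {L : List ℕ} {a b : S.FV L} (h : ∀ r ∈ L, (a : ℕ → K) r = (b : ℕ → K) r) :
    a = b :=
  Subtype.ext (funext fun r => by
    by_cases hr : r ∈ L
    · exact h r hr
    · rw [a.2.1 r hr, b.2.1 r hr])

/-- Coordinates of fixed products are fixed. -/
theorem mem_of_fixed {P : List ℕ} (hP : Ab D S.τ P) (hc : closedListB D Q.K.cf P = true)
    {t : ℕ → K} (ht : S.σ (xprod Q P t) = xprod Q P t) :
    ∀ r ∈ P, t (S.τ r) = S.f r (t r) := by
  obtain ⟨hs, hcl⟩ := closed_of_closedListB Q hc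
  set t' : ℕ → K := fun x => S.f (S.τ x) (t (S.τ x)) with ht'
  have e : S.σ (xprod Q P t) = xprod Q P t' := by
    have h1 : S.σ (xprod Q P t) = xprod Q (P.map S.τ) t' := by
      rw [xprod, map_list_prod, xprod, List.map_map, List.map_map]
      refine congrArg List.prod (List.map_congr_left fun r hr => ?_)
      simp only [Function.comp_apply, ht']
      rw [S.σ_f (hP.lt hr), S.ττ r (hP.lt hr)]
    rw [h1]
    refine xprod_perm Q hP.comm (List.perm_of_nodup_nodup_toFinset_eq
      (hP.nodup.map_on fun a ha b hb e => ?_) hP.nodup ?_) t'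
    · rw [← S.ττ a (hP.lt ha), e, S.ττ b (hP.lt hb)]
    · ext r
      simp only [List.mem_toFinset, List.mem_map]
      exact ⟨fun ⟨s, hs, e⟩ => e ▸ hP.mem s hs, fun hr => ⟨S.τ r, hP.mem r hr, S.ττ r (hP.lt hr)⟩⟩
  intro r hr
  rw [ht] at e
  rw [xprod_inj Q hs hcl e (S.τ r) (hP.mem r hr), ht']
  simp only
  rw [S.ττ r (hP.lt hr)]

/-- The commutator form with values in `P`. -/
def bet (A B : List ℕ) (u v : ℕ → K) (p : ℕ) : K :=
  -∑ b ∈ B.toFinset, ∑ a ∈ A.toFinset, (kap D p a b : K) * u a * v b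

/-- The commutator of fixed elements. -/
theorem el_swap {P A B : List ℕ} (h : bilinB D P A B = true) (hA : Ab D S.τ A) (hB : Ab D S.τ B)
    (hP : Ab D S.τ P) (hc : closedListB D Q.K.cf P = true) (u : S.FV A) (v : S.FV B) :
    ∃ w : S.FV P, (∀ p ∈ P, (w : ℕ → K) p = bet (D := D) A B (u : ℕ → K) (v : ℕ → K) p) ∧
      S.el hB v * S.el hA u = S.el hA u * S.el hB v * S.el hP w := by
  classical
  have e := xprod_swap (Q := Q) h (u : ℕ → K) (v : ℕ → K)
  simp only [← List.sum_toFinset _ hA.nodup, ← List.sum_toFinset _ hB.nodup] at e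
  change _ = _ * xprod Q P (bet (D := D) A B (u : ℕ → K) (v : ℕ → K)) at e
  set w0 := bet (D := D) A B (u : ℕ → K) (v : ℕ → K)
  have hfix : S.σ (xprod Q P w0) = xprod Q P w0 := by
    have hu := S.xprod_fixed hA u.2.2
    have hv := S.xprod_fixed hB v.2.2
    have e' := congrArg S.σ e
    simp only [map_mul, hu, hv] at e'
    rw [e] at e'
    exact (mul_left_cancel e').symm
  let w : S.FV P := ⟨fun p => if p ∈ P then w0 p else 0, fun r hr => if_neg hr, fun r hr => by
    simp only [if_pos hr, if_pos (hP.mem r hr)]; exact S.mem_of_fixed hP hc hfix r hr⟩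
  refine ⟨w, fun p hp => if_pos hp, Subtype.ext ?_⟩
  simp only [Subgroup.coe_mul, coe_el]
  rw [e, xprod_congr Q (L := P) (t := w0) (t' := (w : ℕ → K)) fun p hp => (if_pos hp).symm]

variable {V : Type*} [AddCommGroup V] [Module ℂ V] (π : Representation ℂ ↥S.P V)

/-- The vectors fixed by the fixed part of the subgroup of a set of roots. -/
def Fx (T : List ℕ) : Submodule ℂ V where
  carrier := {w | ∀ g ∈ S.PS T, π g w = w}
  add_mem' ha hb g hg := by rw [map_add, ha g hg, hb g hg]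
  zero_mem' g _ := map_zero _
  smul_mem' c _ h g hg := by rw [map_smul, h g hg]

theorem Fx_anti {T T' : List ℕ} (h : ∀ r ∈ T, r ∈ T') : S.Fx π T' ≤ S.Fx π T :=
  fun _ hw g hg => hw g (S.PS_mono h hg)

theorem Fx_nil : S.Fx π [] = ⊤ := by
  refine eq_top_iff.2 fun w _ g hg => ?_
  rw [mem_PS, show {r | r ∈ ([] : List ℕ)} = (∅ : Set ℕ) by simp, XS_empty, Subgroup.mem_bot] at hg
  rw [show g = 1 from Subtype.ext hg, map_one, Module.End.one_apply]

theorem move (g h : ↥S.P) (w : V) : π h (π g w) = π g (π (g⁻¹ * h * g) w) := by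
  rw [← Module.End.mul_apply, ← map_mul, ← Module.End.mul_apply, ← map_mul]
  congr 2
  group

theorem act_inj (g : ↥S.P) : Function.Injective (π g) := fun a b e => by
  have := congrArg (π g⁻¹) e
  rwa [← Module.End.mul_apply, ← map_mul, inv_mul_cancel, map_one, Module.End.one_apply,
    ← Module.End.mul_apply, ← map_mul, inv_mul_cancel, map_one, Module.End.one_apply] at this

theorem act_ne (g : ↥S.P) {w : V} (hw : w ≠ 0) : π g w ≠ 0 := fun e =>
  hw (S.act_inj π g (e.trans (map_zero _).symm))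

theorem Fx_move {T0 T : List ℕ} {g : ↥S.P} (h : ∀ x ∈ S.PS T, g⁻¹ * x * g ∈ S.PS T0) {w : V}
    (hw : w ∈ S.Fx π T0) : π g w ∈ S.Fx π T := fun x hx => by
  rw [S.move π, hw _ (h x hx)]

/-- A torus element of the fixed group. -/
def tP (c : Fin D.rank → Kˣ) (hc : S.σ (tG Q c) = tG Q c) : ↥S.P := ⟨tG Q c, hc⟩

theorem Fx_torus {T : List ℕ} (hT : ∀ r ∈ T, r < D.nroots) (c : Fin D.rank → Kˣ)
    (hc : S.σ (tG Q c) = tG Q c) {w : V} (hw : w ∈ S.Fx π T) :
    π (S.tP c hc) w ∈ S.Fx π T :=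
  S.Fx_move π (fun x hx => by
    rw [mem_PS] at hx ⊢
    simp only [Subgroup.coe_mul, Subgroup.coe_inv]
    exact torus_mem hT c hx) hw

theorem Fx_norm {L T : List ℕ} (h : Ab D S.τ L) (hn : normB D L T = true) (u : S.FV L) {w : V}
    (hw : w ∈ S.Fx π T) : π (S.el h u) w ∈ S.Fx π T :=
  S.Fx_move π (fun x hx => by
    rw [mem_PS] at hx ⊢
    simp only [Subgroup.coe_mul, Subgroup.coe_inv, coe_el]
    exact norm_xprod L hn _ hx) hw

/-- Fixed by the orbit elements suffices. -/
theorem mem_Fx {T : List ℕ} (h : nilB D Q.K.cf S.τ T = true) {w : V}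
    (hw : ∀ r ∈ T, ∀ (h : Ab D S.τ (orb S.τ r)) u, π (S.el h u) w = w) : w ∈ S.Fx π T := by
  let H : Subgroup ↥S.P :=
    { carrier := {g | π g w = w}
      one_mem' := by show π 1 w = w; rw [map_one, Module.End.one_apply]
      mul_mem' := fun {a b} ha hb => by
        show π (a * b) w = w
        rw [map_mul, Module.End.mul_apply, show π b w = w from hb, show π a w = w from ha]
      inv_mem' := fun {a} ha => S.act_inj π a (by
        rw [← Module.End.mul_apply, ← map_mul, mul_inv_cancel, map_one, Module.End.one_apply]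
        exact (show π a w = w from ha).symm) }
  exact fun g hg => S.PS_le h (H := H) hw hg

theorem Fx_el {L T : List ℕ} (h : Ab D S.τ L) (hT : ∀ r ∈ L, r ∈ T) (u : S.FV L) {w : V}
    (hw : w ∈ S.Fx π T) : π (S.el h u) w = w :=
  hw _ (S.el_mem h hT u)

theorem el_comm {A B : List ℕ} (hc : commB D (A ++ B) = true) (hA : Ab D S.τ A)
    (hB : Ab D S.τ B) (u : S.FV A) (v : S.FV B) :
    S.el hA u * S.el hB v = S.el hB v * S.el hA u :=
  Subtype.ext (Commute.list_prod_left _ _ fun g hg => by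
    obtain ⟨r, hr, rfl⟩ := List.mem_map.1 hg
    exact commute_xprod hc (List.mem_append_left _ hr)
      (fun p hp => List.mem_append_right _ hp) _ _).eq

end Setup

end Cfsg.Agent.H38.HeisDeg
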