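import Cfsg.Agent.H38.HeisDeg.Step

/-!
Orders of the fixed coordinate groups, vectors on which commuting families act by scalars, and
transport by Weyl representatives.
-/
set_option autoImplicit false

namespace Cfsg.Agent.H38.HeisDeg

open Cfsg.Lie Cfsg.Agent.H37 Cfsg.Agent.H37.RootSys Cfsg.Agent.H37.Twist Cfsg.Agent.H37.NormalForm
open Module

/-- The members of an orbit are adjacent. -/
def orbsB (τ : ℕ → ℕ) : List ℕ → Bool
  | [] => true
  | [r] => τ r == r
  | r :: s :: L => if τ r = r then orbsB τ (s :: L) else (s == τ r) && orbsB τ L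

/-- Certificate that the commutators of two orbits fill the orbit of `r`. -/
def genB (D : ChevalleyDatum) (cf : ℕ → ℕ → ℤ) (τ : ℕ → ℕ) (r s j : ℕ) : Bool :=
  abB D τ (orb τ r) && closedListB D cf (orb τ r) && abB D τ (orb τ s) && abB D τ (orb τ j) &&
  bilinB D (orb τ r) (orb τ s) (orb τ j) &&
  if τ r = r then ndB D.nroots (fun a b => kap D r a b) (orb τ s) (orb τ j)
  else decide (τ s ≠ s) && (decide (kap D r s j = 1) || decide (kap D r s j = -1)) &&
    (orb τ j).all fun b => decide (kap D r (τ s) b = 0) && ((b == j) || decide (kap D r s b = 0))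

variable {D : ChevalleyDatum} {K : Type*} [Field K] {Q : Chev.Data D K} {q : ℕ} (S : Setup Q q)

namespace Setup

theorem mem_orb (r : ℕ) : r ∈ orb S.τ r := by
  unfold orb; split <;> simp

theorem card_fix {r : ℕ} (hr : r < D.nroots) (hτ : S.τ r = r) :
    Nat.card {t : K // S.f r t = t} = q := by
  obtain ⟨w, hw0, hw⟩ := S.pt r hr hτ
  refine Eq.trans ?_ S.card_field
  refine (Nat.card_congr
    { toFun := fun μ => ⟨(μ : K) * w, by rw [S.f_smul μ.2]; rw [f_apply, hw]⟩
      invFun := fun t => ⟨(t : K) / w, by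
        show S.φ ((t : K) / w) = (t : K) / w
        have e := t.2
        rw [f_apply] at e
        rw [map_div₀]
        conv_rhs => rw [← e, ← hw]
        rw [mul_div_mul_left _ _ (S.sg_ne r)]⟩
      left_inv := fun μ => Subtype.ext (mul_div_cancel_right₀ _ hw0)
      right_inv := fun t => Subtype.ext (div_mul_cancel₀ _ hw0) }).symm

theorem card_FV [Finite K] : ∀ (L : List ℕ), Ab D S.τ L → orbsB S.τ L = true →
    Nat.card (S.FV L) = q ^ L.length := by
  suffices ∀ (L : List ℕ), L.Nodup → (∀ r ∈ L, r < D.nroots) → (∀ r ∈ L, S.τ r ∈ L) →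
      orbsB S.τ L = true → Nat.card (S.FV L) = q ^ L.length from
    fun L h => this L h.nodup (fun _ hr => h.lt hr) h.mem
  intro L
  induction hn : L.length using Nat.strong_induction_on generalizing L with
  | _ n ih =>
    intro hnd hlt hst ho
    subst hn
    have step : ∀ (O R : List ℕ) (X : Type _), L = O ++ R → O.Nodup →
        (∀ r ∈ O, S.τ r ∈ O) → (S.FV O ≃ X) → orbsB S.τ R = true → R.length < L.length →
        Nat.card (S.FV L) = Nat.card X * q ^ R.length := by
      intro O R X hL hO hOst e hR hlen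
      subst hL
      rw [List.nodup_append] at hnd
      have hdis : ∀ r ∈ R, r ∉ O := fun r hr hr' => hnd.2.2 r hr' r hr rfl
      have hRst : ∀ r ∈ R, S.τ r ∈ R := fun r hr => by
        have hrn := hlt r (List.mem_append_right _ hr)
        rcases List.mem_append.1 (hst r (List.mem_append_right _ hr)) with h | h
        · exact absurd (S.ττ r hrn ▸ hOst _ h) (hdis r hr)
        · exact h
      have hcard := ih R.length hlen R rfl hnd.2.1
        (fun r hr => hlt r (List.mem_append_right _ hr)) hRst hR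
      rw [← hcard, ← Nat.card_congr e, ← Nat.card_prod]
      refine Nat.card_congr
        { toFun := fun t =>
            (⟨fun r => if r ∈ O then (t : ℕ → K) r else 0, fun r hr => if_neg hr, fun r hr => by
              simp only [if_pos hr, if_pos (hOst r hr)]
              exact t.2.2 r (List.mem_append_left _ hr)⟩,
             ⟨fun r => if r ∈ R then (t : ℕ → K) r else 0, fun r hr => if_neg hr, fun r hr => by
              simp only [if_pos hr, if_pos (hRst r hr)]
              exact t.2.2 r (List.mem_append_right _ hr)⟩)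
          invFun := fun p => ⟨(p.1 : ℕ → K) + (p.2 : ℕ → K), fun r hr => by
              rw [List.mem_append, not_or] at hr
              simp [p.1.2.1 r hr.1, p.2.2.1 r hr.2], fun r hr => by
              simp only [Pi.add_apply, map_add]
              rcases List.mem_append.1 hr with h | h
              · rw [p.1.2.2 r h, p.2.2.1 r (fun h' => hdis r h' h),
                  p.2.2.1 _ (fun h' => hdis _ h' (hOst r h)), map_zero]
              · rw [p.2.2.2 r h, p.1.2.1 r (hdis r h), p.1.2.1 _ (hdis _ (hRst r h)), map_zero]⟩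
          left_inv := fun t => Subtype.ext (funext fun r => by
            show (if r ∈ O then (t : ℕ → K) r else 0) + (if r ∈ R then (t : ℕ → K) r else 0) = _
            by_cases h : r ∈ O
            · rw [if_pos h, if_neg (fun h' => hdis r h' h), add_zero]
            · by_cases h' : r ∈ R
              · rw [if_neg h, if_pos h', zero_add]
              · rw [if_neg h, if_neg h', add_zero, t.2.1 r (by simp [h, h'])])
          right_inv := fun p => Prod.ext
            (S.FV_ext fun r hr => by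
              show (if r ∈ O then (p.1 : ℕ → K) r + (p.2 : ℕ → K) r else 0) = _
              rw [if_pos hr, p.2.2.1 r (fun h' => hdis r h' hr), add_zero])
            (S.FV_ext fun r hr => by
              show (if r ∈ R then (p.1 : ℕ → K) r + (p.2 : ℕ → K) r else 0) = _
              rw [if_pos hr, p.1.2.1 r (hdis r hr), zero_add]) }
    have single : ∀ r, r < D.nroots → S.τ r = r → (S.FV [r] ≃ {t : K // S.f r t = t}) :=
      fun r hr hτ =>
        { toFun := fun t => ⟨(t : ℕ → K) r, by
            have e := t.2.2 r (by simp)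
            rw [hτ] at e
            exact e.symm⟩
          invFun := fun k => ⟨S.ov r k, by
            have := S.ov_mem hr (t := (k : K)) fun _ => k.2
            rwa [orb, if_pos hτ] at this⟩
          left_inv := fun t => S.FV_ext fun x hx => by
            rw [List.mem_singleton] at hx
            subst hx
            simp [ov]
          right_inv := fun k => Subtype.ext (by simp [ov]) }
    match L, hnd, hlt, hst, ho, step with
    | [], _, _, _, _, _ =>
      rw [List.length_nil, pow_zero]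
      haveI : Subsingleton (S.FV []) := ⟨fun a b => S.FV_ext fun r hr => by simp at hr⟩
      exact Nat.card_unique
    | [r], hnd, hlt, hst, ho, step =>
      have hτ : S.τ r = r := by simpa [orbsB] using ho
      rw [step [r] [] _ rfl (by simp) (by simp [hτ]) (single r (hlt r (by simp)) hτ) rfl (by simp),
        S.card_fix (hlt r (by simp)) hτ]
      simp
    | r :: s :: R, hnd, hlt, hst, ho, step =>
      simp only [orbsB] at ho
      have hr := hlt r (by simp)
      split at ho
      · next hτ =>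
        rw [step [r] (s :: R) _ rfl (by simp) (by simp [hτ]) (single r hr hτ) ho (by simp),
          S.card_fix hr hτ]
        simp [pow_succ', mul_comm, mul_left_comm]
      · next hτ =>
        simp only [Bool.and_eq_true, beq_iff_eq] at ho
        obtain ⟨rfl, ho⟩ := ho
        have e : S.FV [r, S.τ r] ≃ K :=
          { toFun := fun t => (t : ℕ → K) r
            invFun := fun k => ⟨S.ov r k, by
              have := S.ov_mem hr (t := k) fun h => absurd h hτ
              rwa [orb, if_neg hτ] at this⟩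
            left_inv := fun t => S.FV_ext fun x hx => by
              simp only [List.mem_cons, List.not_mem_nil, or_false] at hx
              rcases hx with rfl | rfl
              · simp [ov]
              · simp [ov, hτ, t.2.2 r (by simp)]
            right_inv := fun k => by simp [ov] }
        rw [step [r, S.τ r] R _ rfl (by simp [Ne.symm hτ]) (by simp [S.ττ r hr]) e ho (by simp),
          S.cardK r hr hτ]
        simp [← pow_add, add_comm, add_left_comm]

variable {V : Type*} [AddCommGroup V] [Module ℂ V] (π : Representation ℂ ↥S.P V)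

/-- The fixed elements along `L` fix `x`. -/
def Triv (x : V) (L : List ℕ) : Prop := ∀ (h : Ab D S.τ L) (u : S.FV L), π (S.el h u) x = x

/-- The fixed elements along `L` act on `x` by scalars. -/
def Scal (x : V) (L : List ℕ) : Prop :=
  ∀ (h : Ab D S.τ L) (u : S.FV L), ∃ c : ℂ, π (S.el h u) x = c • x

theorem Triv.scal {x : V} {L : List ℕ} (h : S.Triv π x L) : S.Scal π x L :=
  fun hL u => ⟨1, by rw [h hL u, one_smul]⟩

theorem Triv_of_Fx {x : V} {L T : List ℕ} (hx : x ∈ S.Fx π T) (h : ∀ r ∈ L, r ∈ T) :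
    S.Triv π x L := fun hL u => S.Fx_el π hL h u hx

/-- Sublists. -/
theorem Triv.sub {x : V} {L L' : List ℕ} (hL : Ab D S.τ L) (h : S.Triv π x L)
    (hsub : ∀ r ∈ L', r ∈ L) : S.Triv π x L' := fun hL' u => by
  let u' : S.FV L := ⟨(u : ℕ → K), fun r hr => u.2.1 r (fun h' => hr (hsub r h')), fun r hr => by
    by_cases hr' : r ∈ L'
    · exact u.2.2 r hr'
    · rw [u.2.1 r hr', map_zero]
      refine u.2.1 _ fun h' => hr' ?_
      have := hL'.mem _ h'
      rwa [S.ττ r (hL.lt hr)] at this⟩
  have e : S.el hL' u = S.el hL u' := by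
    refine Subtype.ext ?_
    simp only [coe_el]
    have hlt : ∀ r ∈ L, r < D.nroots := fun r hr => hL.lt hr
    rw [xprod_congr Q (L := L) (t' := fun r => if decide (r ∈ L') then (u : ℕ → K) r else 0)
      (fun r _ => by by_cases hr' : r ∈ L' <;> simp [hr', u', u.2.1]),
      ← xprod_filter Q _ _ _ hlt]
    refine (xprod_perm Q hL'.comm ?_ _).symm
    refine List.perm_of_nodup_nodup_toFinset_eq (hL.nodup.filter _) hL'.nodup ?_
    ext r
    simp only [List.mem_toFinset, List.mem_filter, decide_eq_true_eq]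
    exact ⟨fun h => h.2, fun h => ⟨hsub r h, h⟩⟩
  rw [e, h hL u']

theorem Triv.perm {x : V} {L L' : List ℕ} (h : S.Triv π x L) (hp : L'.Perm L)
    (hL : Ab D S.τ L) : S.Triv π x L' :=
  h.sub S π hL fun _ hr => hp.subset hr

variable {π}

/-- Commutators of scalars act trivially. -/
theorem triv_of_comm {g h k : ↥S.P} {x : V} (hx : x ≠ 0) {c c' : ℂ} (hg : π g x = c • x)
    (hh : π h x = c' • x) (e : g * h = h * g * k) : π k x = x := by
  have hc : c ≠ 0 := fun h0 => S.act_ne π g hx (by rw [hg, h0, zero_smul])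
  have hc' : c' ≠ 0 := fun h0 => S.act_ne π h hx (by rw [hh, h0, zero_smul])
  have e1 : π (h * g) (π k x) = π (h * g) x := by
    rw [← Module.End.mul_apply, ← map_mul, ← e, map_mul, Module.End.mul_apply, hh, map_smul, hg,
      map_mul, Module.End.mul_apply, hg, map_smul, hh, smul_comm]
  exact S.act_inj π _ e1

/-- A root whose orbit is filled by commutators of scalars. -/
theorem triv_gen {r s j : ℕ} (h : genB D Q.K.cf S.τ r s j = true) {x : V} (hx : x ≠ 0)
    (hs : S.Scal π x (orb S.τ s)) (hj : S.Scal π x (orb S.τ j)) :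
    S.Triv π x (orb S.τ r) := by
  classical
  simp only [genB, Bool.and_eq_true] at h
  obtain ⟨⟨⟨⟨⟨hr', hc⟩, hs'⟩, hj'⟩, hbil⟩, hcase⟩ := h
  intro hR w
  have hS := Ab.of_check hs'
  have hJ := Ab.of_check hj'
  have key : ∀ (u : S.FV (orb S.τ s)) (v : S.FV (orb S.τ j)),
      ∃ w' : S.FV (orb S.τ r), (w' : ℕ → K) r =
        form (fun a b => kap D r a b) (orb S.τ s) (orb S.τ j) (u : ℕ → K) (v : ℕ → K) ∧
        π (S.el hR w') x = x := by
    intro u v
    obtain ⟨w', hw', e⟩ := S.el_swap hbil hS hJ hR hc u v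
    obtain ⟨c, hcu⟩ := hs hS u
    obtain ⟨c', hcv⟩ := hj hJ v
    exact ⟨w', hw' r (S.mem_orb r), S.triv_of_comm hx hcv hcu e⟩
  have hrn := hR.lt (S.mem_orb r)
  have hsn := hS.lt (S.mem_orb s)
  have hjn := hJ.lt (S.mem_orb j)
  have ext : ∀ a b : S.FV (orb S.τ r), (a : ℕ → K) r = (b : ℕ → K) r → a = b := fun a b e =>
    S.FV_ext fun y hy => by
      unfold orb at hy
      split at hy <;> simp only [List.mem_cons, List.not_mem_nil, or_false] at hy
      · rw [hy]; exact e
      · rcases hy with rfl | rfl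
        · exact e
        · rw [a.2.2 r (S.mem_orb r), b.2.2 r (S.mem_orb r), e]
  -- a non-zero coordinate on the orbit of `j`
  obtain ⟨v, hv⟩ : ∃ v : S.FV (orb S.τ j), (v : ℕ → K) j ≠ 0 := by
    by_cases hτ : S.τ j = j
    · obtain ⟨t, ht0, ht⟩ := S.pt j hjn hτ
      exact ⟨⟨S.ov j t, S.ov_mem hjn fun _ => ht⟩, by simp [ov, ht0]⟩
    · exact ⟨⟨S.ov j 1, S.ov_mem hjn fun e => absurd e hτ⟩, by simp [ov]⟩
  split at hcase
  · next hτ =>
    obtain ⟨u, hu⟩ := S.exists_form_ne hS hcase (v := v) (fun e => hv (by rw [e]; rfl))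
    obtain ⟨w1, hw1, -⟩ := key u v
    rw [← hw1] at hu
    have hμ : S.φ ((w : ℕ → K) r / (w1 : ℕ → K) r) = (w : ℕ → K) r / (w1 : ℕ → K) r := by
      have e1 := (w.2.2 r (S.mem_orb r)).symm
      have e2 := (w1.2.2 r (S.mem_orb r)).symm
      rw [hτ, f_apply] at e1 e2
      rw [map_div₀]
      conv_rhs => rw [← e1, ← e2]
      rw [mul_div_mul_left _ _ (S.sg_ne r)]
    obtain ⟨w2, hw2, htr⟩ := key (S.mulF _ ⟨_, hμ⟩ u) v
    rw [ext w w2 ?_]
    · exact htr
    rw [hw2]
    have e : ∀ μ : S.F, form (fun a b => kap D r a b) (orb S.τ s) (orb S.τ j)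
        (S.mulF (orb S.τ s) μ u : ℕ → K) (v : ℕ → K) = (μ : K) *
        form (fun a b => kap D r a b) (orb S.τ s) (orb S.τ j) (u : ℕ → K) (v : ℕ → K) := by
      intro μ
      rw [form, form, mul_neg, Finset.mul_sum]
      refine congrArg Neg.neg (Finset.sum_congr rfl fun b _ => ?_)
      rw [Finset.mul_sum]
      exact Finset.sum_congr rfl fun a _ => by rw [mulF_apply]; ring
    rw [e, ← hw1]
    exact (div_mul_cancel₀ _ hu).symm
  · simp only [Bool.and_eq_true, decide_eq_true_eq, List.all_eq_true, Bool.or_eq_true,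
      beq_iff_eq] at hcase
    obtain ⟨⟨hτs, hκ⟩, hrow⟩ := hcase
    have hne : (kap D r s j : K) * (v : ℕ → K) j ≠ 0 :=
      mul_ne_zero (by rcases hκ with e | e <;> simp [e]) hv
    let u : S.FV (orb S.τ s) :=
      ⟨S.ov s (-((w : ℕ → K) r) / ((kap D r s j : K) * (v : ℕ → K) j)),
        S.ov_mem hsn fun e => absurd e hτs⟩
    obtain ⟨w2, hw2, htr⟩ := key u v
    rw [ext w w2 ?_]
    · exact htr
    rw [hw2, form, Finset.sum_eq_single j (fun b hb hbj => by
        refine Finset.sum_eq_zero fun a ha => ?_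
        rw [List.mem_toFinset, orb, if_neg hτs] at ha
        simp only [List.mem_cons, List.not_mem_nil, or_false] at ha
        obtain ⟨h1, h2⟩ := hrow b (List.mem_toFinset.1 hb)
        rcases ha with rfl | rfl
        · rw [h2.resolve_left hbj]; simp
        · rw [h1]; simp)
      (fun hn => absurd (List.mem_toFinset.2 (S.mem_orb j)) hn),
      Finset.sum_eq_single s (fun a ha has => by
        rw [List.mem_toFinset, orb, if_neg hτs] at ha
        simp only [List.mem_cons, List.not_mem_nil, or_false] at ha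
        rw [ha.resolve_left has, (hrow j (S.mem_orb j)).1]; simp)
      (fun hn => absurd (List.mem_toFinset.2 (S.mem_orb s)) hn)]
    simp only [u, ov, if_true]
    have hk : (kap D r s j : K) ≠ 0 := left_ne_zero_of_mul hne
    field_simp

theorem el_of_single {z : ℕ} (hz : Ab D S.τ [z]) (g : ↥S.P) {k : K}
    (e : (g : ↥(D.group K)) = xG Q.K K z k) : ∃ s, S.el hz s = g := by
  have hzn := hz.lt (r := z) (by simp)
  have hτ := List.mem_singleton.1 (hz.mem z (by simp))
  have hfix : S.σ (g : ↥(D.group K)) = g := g.2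
  rw [e, S.σ_f hzn, hτ] at hfix
  have hk : S.f z k = k := xG_inj Q hzn hfix
  refine ⟨⟨S.ov z k, ?_⟩, Subtype.ext ?_⟩
  · have := S.ov_mem hzn (t := k) fun _ => hk
    rwa [orb, if_pos hτ] at this
  · rw [coe_el, e]; simp [xprod, ov]

/-- A fixed element of the Weyl group part. -/
def nP {ws : List ℕ} (hf : S.σ (nw Q ws) = nw Q ws) : ↥S.P := ⟨nw Q ws, hf⟩

theorem Fx_word {ws T T0 : List ℕ} (hf : S.σ (nw Q ws) = nw Q ws)
    (hb : backB D Q.K.w Q.K.sg ws T T0 = true) {x : V} (hx : x ∈ S.Fx π T0) :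
    π (S.nP hf) x ∈ S.Fx π T :=
  S.Fx_move π (fun y hy => by
    rw [mem_PS] at hy ⊢
    simp only [Subgroup.coe_mul, Subgroup.coe_inv]
    exact nw_back hb hy) hx

/-- Transport of a moved vector. -/
theorem moved_word {ws T T0 : List ℕ} {z0 z : ℕ} (hf : S.σ (nw Q ws) = nw Q ws)
    (hb : backB D Q.K.w Q.K.sg ws T T0 = true) (hz0 : Ab D S.τ [z0]) (hz : Ab D S.τ [z])
    (himg : (img D Q.K.w Q.K.sg ws z0).1 = z) {x : V}
    (hx : x ∈ S.Fx π T0) {s0 : S.FV [z0]} (hmv : π (S.el hz0 s0) x ≠ x) :
    π (S.nP hf) x ∈ S.Fx π T ∧ ∃ s, π (S.el hz s) (π (S.nP hf) x) ≠ π (S.nP hf) x := by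
  have hws : ∀ i ∈ ws, i < D.rank := by
    simp only [backB, Bool.and_eq_true, List.all_eq_true, decide_eq_true_eq] at hb
    exact hb.1
  refine ⟨S.Fx_word hf hb hx, ?_⟩
  set g := S.nP hf
  obtain ⟨s, hs⟩ := S.el_of_single hz (g * S.el hz0 s0 * g⁻¹)
    (k := ((img D Q.K.w Q.K.sg ws z0).2 : K) * (s0 : ℕ → K) z0) (by
      simp only [Subgroup.coe_mul, Subgroup.coe_inv, coe_el, xprod, List.map_singleton,
        List.prod_singleton]
      rw [← himg]
      exact nw_conj hws (hz0.lt (by simp)) _)
  refine ⟨s, fun e => hmv (S.act_inj π g ?_)⟩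
  rw [← Module.End.mul_apply, ← map_mul] at e ⊢
  rwa [hs, inv_mul_cancel_right] at e

namespace Datum

variable {S} {z : ℕ} {A B : List ℕ} (d : S.Datum z A B)

include d in
/-- An element respecting the conditions of a line of central eigenvectors is a scalar on it. -/
theorem scal_of [FiniteDimensional ℂ V] {T0 T : List ℕ} {ζ : AddChar (S.FV [z]) ℂ} {v : V}
    (hv : v ∈ d.M π (S.Fx π T0) ζ) (hv0 : v ≠ 0)
    (hdim : finrank ℂ (d.M π (S.Fx π T0) ζ) ≤ 1) (hvT : v ∈ S.Fx π T) (g : ↥S.P)
    (hg : ∀ x ∈ S.PS T0, g⁻¹ * x * g ∈ S.PS T)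
    (hgA : ∀ u, g⁻¹ * S.el d.Aab u * g ∈ S.PS T)
    (hgz : ∀ s, (S.el d.zab s)⁻¹ * (g⁻¹ * S.el d.zab s * g) ∈ S.PS T) :
    ∃ c : ℂ, π g v = c • v := by
  have hM : π g v ∈ d.M π (S.Fx π T0) ζ := by
    refine ⟨S.Fx_move π hg hvT, fun u => ?_, fun s => ?_⟩
    · rw [S.move π, hvT _ (hgA u)]
    · rw [S.move π, ← mul_inv_cancel_left (S.el d.zab s) (g⁻¹ * S.el d.zab s * g),
        map_mul, Module.End.mul_apply, hvT _ (hgz s), hv.2.2, map_smul]
  set M := d.M π (S.Fx π T0) ζ
  have hne : (⟨v, hv⟩ : M) ≠ 0 := fun e => hv0 (congrArg Subtype.val e)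
  have h1 : finrank ℂ M = 1 := le_antisymm hdim (Module.finrank_pos_iff_exists_ne_zero.2 ⟨_, hne⟩)
  obtain ⟨c, hc⟩ := (finrank_eq_one_iff_of_nonzero' _ hne).1 h1 ⟨_, hM⟩
  exact ⟨c, (congrArg Subtype.val hc).symm⟩

include d in
/-- The scalar criterion for an orbit of commuting roots. -/
theorem scal_list [FiniteDimensional ℂ V] {L T0 T : List ℕ} {ζ : AddChar (S.FV [z]) ℂ} {v : V}
    (hv : v ∈ d.M π (S.Fx π T0) ζ) (hv0 : v ≠ 0)
    (hdim : finrank ℂ (d.M π (S.Fx π T0) ζ) ≤ 1) (hvT : v ∈ S.Fx π T)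
    (hn : normB D L T = true) (hs : shiftB D z L T = true) (hT0 : ∀ r ∈ T0, r ∈ T)
    (hAT : ∀ r ∈ A, r ∈ T) : S.Scal π v L := by
  intro hL u
  have hconj : ∀ x ∈ S.PS T, (S.el hL u)⁻¹ * x * S.el hL u ∈ S.PS T := fun x hx => by
    rw [mem_PS] at hx ⊢
    simp only [Subgroup.coe_mul, Subgroup.coe_inv, coe_el]
    exact norm_xprod L hn _ hx
  refine d.scal_of hv hv0 hdim hvT _ (fun x hx => hconj x (S.PS_mono hT0 hx))
    (fun a => hconj _ (S.el_mem d.Aab hAT a)) (fun s => ?_)
  rw [mem_PS]
  simp only [Subgroup.coe_mul, Subgroup.coe_inv, coe_el, xprod, List.map_singleton,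
    List.prod_singleton]
  exact shift_xprod (d.zab.lt (by simp)) L hn hs _ _

include d in
/-- The scalar criterion for a single fixed root. -/
theorem scal_one [FiniteDimensional ℂ V] {l : ℕ} {T0 T : List ℕ}
    {ζ : AddChar (S.FV [z]) ℂ} {v : V}
    (hv : v ∈ d.M π (S.Fx π T0) ζ) (hv0 : v ≠ 0)
    (hdim : finrank ℂ (d.M π (S.Fx π T0) ζ) ≤ 1) (hvT : v ∈ S.Fx π T)
    (hT0 : passB D T0 T l = true) (hA : passB D A T l = true) (hs : shiftB D z [l] T = true)
    (hzl : z ≠ l) : S.Scal π v [l] := by
  intro hL u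
  refine d.scal_of hv hv0 hdim hvT _ (fun x hx => ?_) (fun a => ?_) (fun s => ?_)
  · rw [mem_PS] at hx ⊢
    simp only [Subgroup.coe_mul, Subgroup.coe_inv, coe_el, xprod, List.map_singleton,
      List.prod_singleton]
    exact pass_x hT0 _ hx
  · rw [mem_PS]
    simp only [Subgroup.coe_mul, Subgroup.coe_inv, coe_el, xprod, List.map_singleton,
      List.prod_singleton]
    exact pass_x hA _ ((S.mem_PS).1 (S.el_mem d.Aab (fun _ h => h) a))
  · simp only [shiftB, List.all_cons, List.all_nil, Bool.and_true, Bool.and_eq_true,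
      decide_eq_true_eq, Bool.or_eq_true, beq_iff_eq, List.all_eq_true,
      List.contains_iff_mem] at hs
    obtain ⟨hl, hcase⟩ := hs
    obtain ⟨hn, hc⟩ := hcase.resolve_left hzl
    rw [mem_PS]
    simp only [Subgroup.coe_mul, Subgroup.coe_inv, coe_el, xprod, List.map_singleton,
      List.prod_singleton]
    rw [conj_x hl (d.zab.lt (by simp)) hzl hn, inv_mul_cancel_left]
    refine Subgroup.list_prod_mem _ fun y hy => ?_
    obtain ⟨c, hc', rfl⟩ := List.mem_map.1 hy
    exact x_mem_XS (S := {r | r ∈ T}) (hc c hc') _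

end Datum

end Setup

end Cfsg.Agent.H38.HeisDeg
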