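import Cfsg.Agent.H37.Twist.Pieces
import Cfsg.Agent.H37.NormalForm

/-!
An involution of a Chevalley group acting on root elements, the fixed elements along lists of
commuting roots, and generation of fixed parts of closed sets of positive roots by fixed orbit
elements.
-/
set_option autoImplicit false

namespace Cfsg.Agent.H38.HeisDeg

open Cfsg.Lie Cfsg.Agent.H37 Cfsg.Agent.H37.RootSys Cfsg.Agent.H37.Twist Cfsg.Agent.H37.NormalForm

/-- An involution permuting the root subgroups, or the identity. -/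
structure Setup {D : ChevalleyDatum} {K : Type*} [Field K] (Q : Chev.Data D K) (q : ℕ) where
  φ : K →+* K
  φφ : ∀ t, φ (φ t) = t
  τ : ℕ → ℕ
  sg : ℕ → ℤ
  τ_lt : ∀ r, r < D.nroots → τ r < D.nroots
  ττ : ∀ r, r < D.nroots → τ (τ r) = r
  sg_pm : ∀ r, sg r = 1 ∨ sg r = -1
  sg_τ : ∀ r, r < D.nroots → sg (τ r) = sg r
  σ : ↥(D.group K) →* ↥(D.group K)
  σ_x : ∀ r, r < D.nroots → ∀ t, σ (xG Q.K K r t) = xG Q.K K (τ r) ((sg r : K) * φ t)
  moved : ∀ r, r < D.nroots → τ r ≠ r → ∃ t, φ t ≠ t
  pt : ∀ r, r < D.nroots → τ r = r → ∃ w : K, w ≠ 0 ∧ (sg r : K) * φ w = w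
  q_two : 2 ≤ q
  cardF : Nat.card {t : K // φ t = t} = q
  cardK : ∀ r, r < D.nroots → τ r ≠ r → Nat.card K = q ^ 2

/-- The orbit of a root. -/
def orb (τ : ℕ → ℕ) (r : ℕ) : List ℕ := if τ r = r then [r] else [r, τ r]

/-- A stable list of distinct commuting roots. -/
def abB (D : ChevalleyDatum) (τ : ℕ → ℕ) (L : List ℕ) : Bool :=
  commB D L && decide L.Nodup && L.all fun r => L.contains (τ r)

variable {D : ChevalleyDatum} {K : Type*} [Field K] {Q : Chev.Data D K} {q : ℕ}

/-- Meaning of `abB`. -/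
structure Ab (D : ChevalleyDatum) (τ : ℕ → ℕ) (L : List ℕ) : Prop where
  comm : commB D L = true
  nodup : L.Nodup
  mem : ∀ r ∈ L, τ r ∈ L

theorem Ab.of_check {τ : ℕ → ℕ} {L : List ℕ} (h : abB D τ L = true) : Ab D τ L := by
  simp only [abB, Bool.and_eq_true, decide_eq_true_eq, List.all_eq_true,
    List.contains_iff_mem] at h
  exact ⟨h.1.1, h.1.2, h.2⟩

theorem Ab.lt {τ : ℕ → ℕ} {L : List ℕ} (h : Ab D τ L) {r : ℕ} (hr : r ∈ L) : r < D.nroots := by
  have := h.comm
  simp only [commB, List.all_eq_true, Bool.and_eq_true, decide_eq_true_eq] at this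
  exact (this r hr).1

variable (Q) in
theorem xprod_perm {L L' : List ℕ} (hc : commB D L = true) (h : L'.Perm L) (t : ℕ → K) :
    xprod Q L' t = xprod Q L t := by
  refine List.Perm.prod_eq' (h.map _) ?_
  rw [List.pairwise_map]
  refine List.Pairwise.imp_of_mem (fun {a b} ha hb _ => ?_)
    (List.pairwise_of_forall (R := fun _ _ => True) fun _ _ => trivial)
  exact commute_xG Q hc (h.mem_iff.1 ha) (h.mem_iff.1 hb) _ _

variable (Q) in
theorem xprod_add {L : List ℕ} (hc : commB D L = true) (hlt : ∀ r ∈ L, r < D.nroots)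
    (t u : ℕ → K) : xprod Q L (fun r => t r + u r) = xprod Q L t * xprod Q L u := by
  suffices ∀ L' : List ℕ, (∀ r ∈ L', r ∈ L) →
      xprod Q L' (fun r => t r + u r) = xprod Q L' t * xprod Q L' u from this _ fun _ h => h
  intro L'
  induction L' with
  | nil => intro _; simp [xprod]
  | cons a L' ih =>
      intro hL
      have ha := hL a (by simp)
      have hc' : Commute (xG Q.K K a (u a)) (xprod Q L' t) :=
        Commute.list_prod_right _ _ fun g hg => by
          obtain ⟨r, hr, rfl⟩ := List.mem_map.1 hg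
          exact commute_xG Q hc ha (hL r (List.mem_cons_of_mem _ hr)) _ _
      have hadd : xG Q.K K a (t a + u a) = xG Q.K K a (t a) * xG Q.K K a (u a) :=
        Q.sys.x_add' a (hlt a ha) _ _
      rw [xprod_cons, xprod_cons, xprod_cons, ih (fun r hr => hL r (List.mem_cons_of_mem _ hr)),
        hadd]
      calc xG Q.K K a (t a) * xG Q.K K a (u a) * (xprod Q L' t * xprod Q L' u)
          = xG Q.K K a (t a) * (xG Q.K K a (u a) * xprod Q L' t) * xprod Q L' u := by group
        _ = _ := by rw [hc'.eq]; group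

variable (Q) in
theorem xprod_filter (p : ℕ → Bool) (t : ℕ → K) :
    ∀ L : List ℕ, (∀ r ∈ L, r < D.nroots) →
      xprod Q (L.filter p) t = xprod Q L (fun r => if p r then t r else 0)
  | [], _ => by simp [xprod]
  | a :: L, hlt => by
      rw [xprod_cons]
      by_cases h : p a
      · rw [List.filter_cons_of_pos h, xprod_cons,
          xprod_filter p t L fun r hr => hlt r (List.mem_cons_of_mem _ hr), if_pos h]
      · rw [List.filter_cons_of_neg h,
          xprod_filter p t L fun r hr => hlt r (List.mem_cons_of_mem _ hr), if_neg h,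
          show xG Q.K K a (0 : K) = 1 from Q.sys.x_zero' (hlt a (by simp)), one_mul]

variable (S : Setup Q q)

namespace Setup

/-- The map on coordinates. -/
def f (r : ℕ) : K →+ K := (AddMonoidHom.mulLeft (S.sg r : K)).comp S.φ.toAddMonoidHom

theorem f_apply (r : ℕ) (t : K) : S.f r t = (S.sg r : K) * S.φ t := rfl

theorem σ_f {r : ℕ} (hr : r < D.nroots) (t : K) :
    S.σ (xG Q.K K r t) = xG Q.K K (S.τ r) (S.f r t) := S.σ_x r hr t

theorem f_f {r : ℕ} (hr : r < D.nroots) (t : K) : S.f (S.τ r) (S.f r t) = t := by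
  rw [f_apply, f_apply, map_mul, map_intCast, S.φφ, S.sg_τ r hr, ← mul_assoc]
  rcases S.sg_pm r with h | h <;> simp [h]

theorem f_smul {μ : K} (hμ : S.φ μ = μ) (r : ℕ) (t : K) : S.f r (μ * t) = μ * S.f r t := by
  rw [f_apply, f_apply, map_mul, hμ]; ring

theorem sg_ne (r : ℕ) : (S.sg r : K) ≠ 0 := by
  rcases S.sg_pm r with h | h <;> simp [h]

/-- The fixed group. -/
abbrev P : Subgroup ↥(D.group K) := fixedPts S.σ

/-- Fixed coordinate vectors along a list. -/
def FV (L : List ℕ) : AddSubgroup (ℕ → K) where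
  carrier := {t | (∀ r, r ∉ L → t r = 0) ∧ ∀ r ∈ L, t (S.τ r) = S.f r (t r)}
  add_mem' {a b} ha hb := ⟨fun r hr => by simp [ha.1 r hr, hb.1 r hr],
    fun r hr => by simp [ha.2 r hr, hb.2 r hr]⟩
  zero_mem' := ⟨fun _ _ => rfl, fun _ _ => by simp⟩
  neg_mem' {a} ha := ⟨fun r hr => by simp [ha.1 r hr], fun r hr => by simp [ha.2 r hr]⟩

theorem FV_smul {L : List ℕ} {t : ℕ → K} (ht : t ∈ S.FV L) {μ : K} (hμ : S.φ μ = μ) :
    (fun r => μ * t r) ∈ S.FV L :=
  ⟨fun r hr => by simp [ht.1 r hr], fun r hr => by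
    show μ * t (S.τ r) = S.f r (μ * t r)
    rw [ht.2 r hr, S.f_smul hμ]⟩

variable {L : List ℕ} (h : Ab D S.τ L)

include h in
theorem xprod_fixed {t : ℕ → K} (ht : ∀ r ∈ L, t (S.τ r) = S.f r (t r)) :
    S.σ (xprod Q L t) = xprod Q L t := by
  have e : S.σ (xprod Q L t) = xprod Q (L.map S.τ) t := by
    rw [xprod, map_list_prod, xprod, List.map_map, List.map_map]
    refine congrArg List.prod (List.map_congr_left fun r hr => ?_)
    simp only [Function.comp_apply]
    rw [S.σ_f (h.lt hr), ht r hr]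
  rw [e]
  refine xprod_perm Q h.comm ?_ t
  refine List.perm_of_nodup_nodup_toFinset_eq (h.nodup.map_on fun a ha b hb e => ?_) h.nodup ?_
  · rw [← S.ττ a (h.lt ha), e, S.ττ b (h.lt hb)]
  · ext r
    simp only [List.mem_toFinset, List.mem_map]
    exact ⟨fun ⟨s, hs, e⟩ => e ▸ h.mem s hs, fun hr => ⟨S.τ r, h.mem r hr, S.ττ r (h.lt hr)⟩⟩

/-- The fixed element with the given coordinates. -/
def el (u : S.FV L) : ↥S.P := ⟨xprod Q L (u : ℕ → K), S.xprod_fixed h u.2.2⟩

theorem coe_el (u : S.FV L) : (S.el h u : ↥(D.group K)) = xprod Q L (u : ℕ → K) := rfl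

theorem el_add (u v : S.FV L) : S.el h (u + v) = S.el h u * S.el h v :=
  Subtype.ext (xprod_add Q h.comm (fun _ hr => h.lt hr) (u : ℕ → K) (v : ℕ → K))

theorem el_zero : S.el h 0 = 1 := by
  have e := S.el_add h 0 0
  rw [add_zero] at e
  exact left_eq_mul.1 e

theorem el_neg (u : S.FV L) : S.el h (-u) = (S.el h u)⁻¹ :=
  eq_inv_of_mul_eq_one_left (by rw [← S.el_add, neg_add_cancel, S.el_zero])

/-- The fixed part of the subgroup of a set of roots. -/
def PS (T : List ℕ) : Subgroup ↥S.P := (XS (xG Q.K K) {r | r ∈ T}).subgroupOf S.P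

theorem mem_PS {T : List ℕ} {g : ↥S.P} :
    g ∈ S.PS T ↔ (g : ↥(D.group K)) ∈ XS (xG Q.K K) {r | r ∈ T} := Iff.rfl

theorem PS_mono {T T' : List ℕ} (hT : ∀ r ∈ T, r ∈ T') : S.PS T ≤ S.PS T' :=
  fun _ hg => XS_mono (fun r hr => hT r hr) hg

theorem el_mem {T : List ℕ} (hT : ∀ r ∈ L, r ∈ T) (u : S.FV L) : S.el h u ∈ S.PS T := by
  rw [mem_PS, coe_el, xprod]
  refine Subgroup.list_prod_mem _ fun g hg => ?_
  obtain ⟨r, hr, rfl⟩ := List.mem_map.1 hg
  exact x_mem_XS (S := {r | r ∈ T}) (hT r hr) _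

/-- Coordinates on the orbit of `r`. -/
def ov (r : ℕ) (t : K) : ℕ → K := fun x =>
  if x = r then t else if x = S.τ r then S.f r t else 0

omit h in
theorem ov_mem {r : ℕ} (hr : r < D.nroots) {t : K} (ht : S.τ r = r → S.f r t = t) :
    S.ov r t ∈ S.FV (orb S.τ r) := by
  by_cases hτ : S.τ r = r
  · refine ⟨fun x hx => ?_, fun x hx => ?_⟩ <;> simp only [orb, hτ, if_true, List.mem_singleton] at hx
    · simp [ov, hx, hτ]
    · subst hx; simp [ov, hτ, ht hτ]
  · refine ⟨fun x hx => ?_, fun x hx => ?_⟩ <;>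
      simp only [orb, hτ, if_false, List.mem_cons, List.not_mem_nil, or_false] at hx
    · simp [ov, not_or.1 hx]
    · rcases hx with rfl | rfl
      · simp [ov, hτ]
      · simp [ov, hτ, S.ττ r hr, S.f_f hr]

end Setup

/-- `x` is no positive combination of `r` and `s`. -/
def nosumB (D : ChevalleyDatum) (cf : ℕ → ℕ → ℤ) (x r s : ℕ) : Bool :=
  (r == s) || decide (x ≤ r) || decide (x ≤ s) || (List.range D.rank).any fun i =>
    decide (cf x i < cf r i + cf s i) ||
      (decide (cf x i ≠ 0) && decide (cf r i = 0) && decide (cf s i = 0))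

/-- `x` is no positive combination of two roots of `S`. -/
def indecB (D : ChevalleyDatum) (cf : ℕ → ℕ → ℤ) (S : List ℕ) (x : ℕ) : Bool :=
  S.all fun r => S.all fun s => nosumB D cf x r s

/-- A numerical certificate that a list of positive roots is closed and increasing. -/
def closedListB (D : ChevalleyDatum) (cf : ℕ → ℕ → ℤ) (S : List ℕ) : Bool :=
  decide (S.Pairwise (· < ·)) &&
  (S.all fun r => decide (D.nroots / 2 ≤ r) && decide (r < D.nroots)) &&
  (List.range D.nroots).all fun k =>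
    decide (k < D.nroots / 2) || S.contains k || indecB D cf S k

/-- The orbits can be split off one after the other from the bottom. -/
def peelB (D : ChevalleyDatum) (cf : ℕ → ℕ → ℤ) (τ : ℕ → ℕ) : ℕ → List ℕ → Bool
  | _, [] => true
  | 0, _ :: _ => false
  | m + 1, k :: L =>
    abB D τ (orb τ k) &&
    if τ k = k then peelB D cf τ m L
    else L.contains (τ k) && indecB D cf (k :: L) (τ k) &&
      peelB D cf τ m (L.filter fun r => decide (r ≠ τ k))

/-- Closed, increasing, stable, and split by orbits. -/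
def nilB (D : ChevalleyDatum) (cf : ℕ → ℕ → ℤ) (τ : ℕ → ℕ) (S : List ℕ) : Bool :=
  closedListB D cf S && (S.all fun r => S.contains (τ r)) && peelB D cf τ S.length S

variable (Q) in
theorem not_combo {x r s : ℕ} (hx : x < D.nroots) (hr : r ∈ Q.sys.P) (hs : s ∈ Q.sys.P)
    (hne : r ≠ s) (h : nosumB D Q.K.cf x r s = true) : ¬ Q.sys.toUnip.T r s x := by
  intro hT
  obtain ⟨-, h1, h2⟩ := Q.sys.T_pos hr hs hT
  obtain ⟨-, a, b, ha, hb, e⟩ := hT
  rw [Q.sys.P_eq, mem_posSet] at hr hs
  simp only [nosumB, Bool.or_eq_true, decide_eq_true_eq, List.any_eq_true, List.mem_range,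
    Bool.and_eq_true, beq_iff_eq] at h
  rcases h with ((h | h) | h) | ⟨i, hi, h⟩
  · exact hne h
  · omega
  · omega
  · have e' := e i hi
    rcases h with h | ⟨⟨h, hr0⟩, hs0⟩
    · have p1 := Q.K.cf_nonneg r hr.1 hr.2 i hi
      have p2 := Q.K.cf_nonneg s hs.1 hs.2 i hi
      have q1 : Q.K.cf r i ≤ a * Q.K.cf r i := le_mul_of_one_le_left p1 (by exact_mod_cast ha)
      have q2 : Q.K.cf s i ≤ b * Q.K.cf s i := le_mul_of_one_le_left p2 (by exact_mod_cast hb)
      omega
    · rw [hr0, hs0, mul_zero, mul_zero, add_zero] at e'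
      exact h e'

variable (Q) in
theorem closed_of_closedListB {S : List ℕ} (h : closedListB D Q.K.cf S = true) :
    S.Pairwise (· < ·) ∧ Q.sys.toUnip.Closed S.toFinset := by
  simp only [closedListB, Bool.and_eq_true, decide_eq_true_eq, List.all_eq_true, List.mem_range,
    Bool.or_eq_true, List.contains_iff_mem] at h
  obtain ⟨⟨h1, h2⟩, h3⟩ := h
  refine ⟨h1, fun r hr => ?_, fun r hr s hs hne k hk => ?_⟩
  · rw [List.mem_toFinset] at hr
    exact Q.sys.P_eq ▸ mem_posSet.2 ⟨(h2 r hr).2, (h2 r hr).1⟩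
  · rw [List.mem_toFinset] at hr hs ⊢
    have hr' : r ∈ Q.sys.P := Q.sys.P_eq ▸ mem_posSet.2 ⟨(h2 r hr).2, (h2 r hr).1⟩
    have hs' : s ∈ Q.sys.P := Q.sys.P_eq ▸ mem_posSet.2 ⟨(h2 s hs).2, (h2 s hs).1⟩
    have hkP := (Q.sys.T_pos hr' hs' hk).1
    rw [Q.sys.P_eq, mem_posSet] at hkP
    rcases h3 k hkP.1 with (h' | h') | h'
    · omega
    · exact h'
    · simp only [indecB, List.all_eq_true] at h'
      exact absurd hk (not_combo Q hkP.1 hr' hs' hne (h' r hr s hs))

variable (Q) in
theorem closed_filter {S : List ℕ} (hcl : Q.sys.toUnip.Closed S.toFinset) {x : ℕ}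
    (h : indecB D Q.K.cf S x = true) :
    Q.sys.toUnip.Closed (S.filter fun r => decide (r ≠ x)).toFinset := by
  simp only [indecB, List.all_eq_true] at h
  refine ⟨fun r hr => hcl.1 ?_, fun r hr s hs hne k hk => ?_⟩
  · simp only [List.mem_toFinset, List.mem_filter] at hr ⊢
    exact hr.1
  · simp only [List.mem_toFinset, List.mem_filter, decide_eq_true_eq] at hr hs ⊢
    have hr' := hcl.1 (List.mem_toFinset.2 hr.1)
    have hs' := hcl.1 (List.mem_toFinset.2 hs.1)
    refine ⟨List.mem_toFinset.1 (hcl.2 r (List.mem_toFinset.2 hr.1) s (List.mem_toFinset.2 hs.1)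
      hne k hk), ?_⟩
    rintro rfl
    have hkP := (Q.sys.T_pos hr' hs' hk).1
    rw [Q.sys.P_eq, mem_posSet] at hkP
    exact not_combo Q hkP.1 hr' hs' hne (h r hr.1 s hs.1) hk

namespace Setup

theorem peel_le (H : Subgroup ↥S.P) : ∀ (m : ℕ) (L : List ℕ), L.Pairwise (· < ·) →
    Q.sys.toUnip.Closed L.toFinset → (∀ r ∈ L, S.τ r ∈ L) →
    peelB D Q.K.cf S.τ m L = true →
    (∀ r ∈ L, ∀ (h : Ab D S.τ (orb S.τ r)) u, S.el h u ∈ H) → S.PS L ≤ H := by
  intro m
  induction m with
  | zero =>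
    rintro (_ | ⟨k, L⟩) - - - hp - g hg
    · rw [mem_PS, show {r | r ∈ ([] : List ℕ)} = (∅ : Set ℕ) by simp, XS_empty,
        Subgroup.mem_bot] at hg
      rw [show g = 1 from Subtype.ext hg]
      exact one_mem _
    · simp [peelB] at hp
  | succ m ih =>
    rintro (_ | ⟨k, L⟩) hs hcl hst hp hH g hg
    · rw [mem_PS, show {r | r ∈ ([] : List ℕ)} = (∅ : Set ℕ) by simp, XS_empty,
        Subgroup.mem_bot] at hg
      rw [show g = 1 from Subtype.ext hg]
      exact one_mem _
    simp only [peelB, Bool.and_eq_true] at hp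
    obtain ⟨hab, hp⟩ := hp
    have hO : Ab D S.τ (orb S.τ k) := Ab.of_check hab
    have hkn : k < D.nroots := by
      refine hO.lt ?_
      unfold orb; split <;> simp
    have hlt : ∀ r ∈ k :: L, r < D.nroots := fun r hr => by
      have := hcl.1 (List.mem_toFinset.2 hr)
      rw [Q.sys.P_eq, mem_posSet] at this
      exact this.1
    have hgs : (g : ↥(D.group K)) ∈ XS Q.sys.x (↑(k :: L).toFinset : Set ℕ) :=
      XS_mono (fun r hr => List.mem_toFinset.2 hr) hg
    obtain ⟨t, ht⟩ := exists_xprod Q hs hcl hgs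
    obtain ⟨hclL, -⟩ := closed_tail Q hs hcl
    have hsL := (List.pairwise_cons.1 hs).2
    have hkL : k ∉ L := fun hk => lt_irrefl k ((List.pairwise_cons.1 hs).1 k hk)
    have hτinj : ∀ {r s}, r < D.nroots → s < D.nroots → S.τ r = S.τ s → r = s := fun hr hs e => by
      rw [← S.ττ _ hr, e, S.ττ _ hs]
    have hσL : S.σ (xprod Q L t) ∈ XS Q.sys.x {r | r ∈ (k :: L) ∧ r ≠ S.τ k} := by
      rw [xprod, map_list_prod]
      refine Subgroup.list_prod_mem _ fun y hy => ?_
      rw [List.map_map, List.mem_map] at hy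
      obtain ⟨r, hr, rfl⟩ := hy
      rw [Function.comp_apply, S.σ_f (hlt r (List.mem_cons_of_mem _ hr))]
      refine x_mem_XS (S := {r | r ∈ (k :: L) ∧ r ≠ S.τ k})
        ⟨hst r (List.mem_cons_of_mem _ hr), fun e => ?_⟩ _
      exact hkL (hτinj (hlt r (List.mem_cons_of_mem _ hr)) hkn e ▸ hr)
    have hfix : S.σ g = g := g.2
    by_cases hτ : S.τ k = k
    · rw [if_pos hτ] at hp
      have hftk : S.f k (t k) = t k := by
        have e1 : xG Q.K K k (S.f k (t k)) * S.σ (xprod Q L t) = xG Q.K K k (t k) * xprod Q L t := by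
          have := hfix
          rwa [ht, xprod_cons, map_mul, S.σ_f hkn, hτ] at this
        refine (Q.sys.toUnip.head_unique hcl (k := k) (by simp) ?_ ?_ e1).1
        · refine XS_mono ?_ hσL
          rintro r ⟨hr, hne⟩
          rw [hτ] at hne
          rcases List.mem_cons.1 hr with rfl | hr
          · exact absurd rfl hne
          · exact ⟨List.mem_toFinset.2 (List.mem_cons_of_mem _ hr),
              (List.pairwise_cons.1 hs).1 r hr⟩
        · exact (closed_tail Q hs hcl).2 ▸ xprod_mem Q t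
      set u : S.FV (orb S.τ k) := ⟨S.ov k (t k), S.ov_mem hkn fun _ => hftk⟩ with hu
      have he : (S.el hO u : ↥(D.group K)) = xG Q.K K k (t k) := by
        rw [coe_el]; simp [hu, orb, hτ, xprod, ov]
      have hg' : (S.el hO u)⁻¹ * g ∈ S.PS L := by
        rw [mem_PS, Subgroup.coe_mul, Subgroup.coe_inv, he, ht, xprod_cons, inv_mul_cancel_left]
        exact XS_mono (fun r hr => List.mem_toFinset.1 hr) (xprod_mem Q t)
      have hstL : ∀ r ∈ L, S.τ r ∈ L := fun r hr => by
        rcases List.mem_cons.1 (hst r (List.mem_cons_of_mem _ hr)) with e | e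
        · exact absurd (hτinj (hlt r (List.mem_cons_of_mem _ hr)) hkn (e.trans hτ.symm))
            (fun e' => hkL (e' ▸ hr))
        · exact e
      rw [← mul_inv_cancel_left (S.el hO u) g]
      exact mul_mem (hH k (by simp) hO u)
        (ih L hsL hclL hstL hp (fun r hr => hH r (List.mem_cons_of_mem _ hr)) hg')
    · rw [if_neg hτ] at hp
      simp only [Bool.and_eq_true, List.contains_iff_mem] at hp
      obtain ⟨⟨hxL, hind⟩, hp⟩ := hp
      set x := S.τ k with hx
      set u : S.FV (orb S.τ k) := ⟨S.ov k (t k), S.ov_mem hkn fun h => absurd h hτ⟩ with hu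
      have he : (S.el hO u : ↥(D.group K)) = xG Q.K K k (t k) * xG Q.K K x (S.f k (t k)) := by
        rw [coe_el]; simp [hu, orb, ← hx, hτ, xprod, ov]
      have hcomm : Commute (xG Q.K K k (t k)) (xG Q.K K x (S.f k (t k))) :=
        commute_xG Q hO.comm (by simp [orb, ← hx, hτ]) (by simp [orb, ← hx, hτ]) _ _
      set g' := (S.el hO u)⁻¹ * g with hg'def
      have hg'L : (g' : ↥(D.group K)) ∈ XS Q.sys.x (↑L.toFinset : Set ℕ) := by
        rw [hg'def, Subgroup.coe_mul, Subgroup.coe_inv, he, hcomm.eq, ht, xprod_cons, mul_inv_rev,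
          mul_assoc, ← mul_assoc (xG Q.K K x _)⁻¹]
        rw [show (xG Q.K K k (t k))⁻¹ * ((xG Q.K K x (S.f k (t k)))⁻¹ * xG Q.K K k (t k) *
          xprod Q L t) = (xG Q.K K x (S.f k (t k)))⁻¹ * xprod Q L t by
            rw [← mul_assoc, ← mul_assoc, hcomm.inv_inv.eq, inv_mul_cancel_right]]
        exact mul_mem (inv_mem (x_mem_XS (S := (↑L.toFinset : Set ℕ))
          (List.mem_toFinset.2 hxL) _)) (xprod_mem Q t)
      obtain ⟨t', ht'⟩ := exists_xprod Q hsL hclL hg'L
      have hsF : ((k :: L).filter fun r => decide (r ≠ x)).Pairwise (· < ·) := hs.filter _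
      have hclF := closed_filter Q hcl hind
      have hg'F : (g' : ↥(D.group K)) ∈
          XS Q.sys.x (↑((k :: L).filter fun r => decide (r ≠ x)).toFinset : Set ℕ) := by
        rw [← show S.σ (g' : ↥(D.group K)) = g' from g'.2, ht', xprod, map_list_prod]
        refine Subgroup.list_prod_mem _ fun y hy => ?_
        rw [List.map_map, List.mem_map] at hy
        obtain ⟨r, hr, rfl⟩ := hy
        rw [Function.comp_apply, S.σ_f (hlt r (List.mem_cons_of_mem _ hr))]
        refine x_mem_XS (S := (↑((k :: L).filter fun r => decide (r ≠ x)).toFinset : Set ℕ)) ?_ _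
        simp only [List.coe_toFinset, Set.mem_setOf_eq, List.mem_filter, decide_eq_true_eq]
        exact ⟨hst r (List.mem_cons_of_mem _ hr), fun e =>
          hkL (hτinj (hlt r (List.mem_cons_of_mem _ hr)) hkn e ▸ hr)⟩
      obtain ⟨t'', ht''⟩ := exists_xprod Q hsF hclF hg'F
      have ez : t' x = 0 := by
        have e1 : xprod Q (k :: L) (fun r => if decide (r ≠ k) then t' r else 0) =
            xprod Q (k :: L) (fun r => if decide (r ≠ x) then t'' r else 0) := by
          rw [← xprod_filter Q _ _ _ hlt, ← xprod_filter Q _ _ _ hlt, ← ht'',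
            show (k :: L).filter (fun r => decide (r ≠ k)) = L by
              rw [List.filter_cons_of_neg (by simp), List.filter_eq_self]
              intro r hr
              simpa using fun e : r = k => hkL (e ▸ hr)]
          exact ht'.symm
        have := xprod_inj Q hs hcl e1 x (List.mem_cons_of_mem _ hxL)
        simpa [show x ≠ k from hτ] using this
      set L' := L.filter fun r => decide (r ≠ x) with hL'
      have hg'' : g' ∈ S.PS L' := by
        rw [mem_PS, ht', show xprod Q L t' = xprod Q L' t' by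
          rw [hL', xprod_filter Q _ _ _ fun r hr => hlt r (List.mem_cons_of_mem _ hr)]
          exact xprod_congr Q fun r _ => by by_cases e : r = x <;> simp [e, ez]]
        exact XS_mono (fun r hr => List.mem_toFinset.1 hr) (xprod_mem Q t')
      have hFL : (k :: L).filter (fun r => decide (r ≠ x)) = k :: L' :=
        List.filter_cons_of_pos (by simpa using fun e : k = x => hτ e.symm)
      have hs' := hFL ▸ hsF
      have hcl' := (closed_tail Q hs' (hFL ▸ hclF)).1
      have hstL : ∀ r ∈ L', S.τ r ∈ L' := fun r hr => by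
        rw [hL', List.mem_filter, decide_eq_true_eq] at hr
        rw [hL', List.mem_filter, decide_eq_true_eq]
        have hrn := hlt r (List.mem_cons_of_mem _ hr.1)
        refine ⟨?_, fun e => hkL (hτinj hrn hkn e ▸ hr.1)⟩
        rcases List.mem_cons.1 (hst r (List.mem_cons_of_mem _ hr.1)) with e | e
        · exact absurd (by rw [hx, ← e, S.ττ r hrn]) hr.2
        · exact e
      rw [← mul_inv_cancel_left (S.el hO u) g]
      exact mul_mem (hH k (by simp) hO u) (ih L' (List.pairwise_cons.1 hs').2 hcl' hstL hp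
        (fun r hr => hH r (List.mem_cons_of_mem _ (List.mem_filter.1 hr).1)) hg'')

/-- The fixed part of a closed stable set of positive roots is generated by orbit elements. -/
theorem PS_le {L : List ℕ} (h : nilB D Q.K.cf S.τ L = true) {H : Subgroup ↥S.P}
    (hH : ∀ r ∈ L, ∀ (h : Ab D S.τ (orb S.τ r)) u, S.el h u ∈ H) : S.PS L ≤ H := by
  simp only [nilB, Bool.and_eq_true, List.all_eq_true, List.contains_iff_mem] at h
  obtain ⟨h1, h2⟩ := closed_of_closedListB Q h.1.1
  exact S.peel_le H _ L h1 h2 h.1.2 h.2 hH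

end Setup

end Cfsg.Agent.H38.HeisDeg
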