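import Cfsg.Agent.H38.HeisDeg.Fix

/-!
The dimension inequality from a root with a pairing of two commuting families over it.
-/
set_option autoImplicit false

namespace Cfsg.Agent.H38.HeisDeg

open Cfsg.Lie Cfsg.Agent.H37 Cfsg.Agent.H37.RootSys Cfsg.Agent.H37.Twist Cfsg.Agent.H37.NormalForm
open Module

/-- Distinct joint eigenspaces add up. -/
theorem joint_le {V : Type*} [AddCommGroup V] [Module ℂ V] [FiniteDimensional ℂ V] {Qi J : Type*}
    [Fintype J] (f : Qi → Module.End ℂ V) (c : J → Qi → ℂ) (hc : Function.Injective c)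
    (W : Submodule ℂ V) (T : J → Submodule ℂ V)
    (hT : ∀ j, ∀ w ∈ T j, ∀ a, f a w = c j a • w) (hle : ∀ j, T j ≤ W) :
    ∑ j, finrank ℂ (T j) ≤ finrank ℂ W := by
  classical
  let Φ : (∀ j, T j) →ₗ[ℂ] W :=
    ∑ j, (Submodule.inclusion (hle j)).comp (LinearMap.proj j)
  have hΦ : ∀ x, (Φ x : V) = ∑ j, (x j : V) := fun x => by simp [Φ]
  have hinj : Function.Injective Φ := by
    rw [← LinearMap.ker_eq_bot, eq_bot_iff]
    intro x hx
    rw [Submodule.mem_bot]
    by_contra hne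
    have h0 : ∑ j, (x j : V) = 0 := by rw [← hΦ, LinearMap.mem_ker.1 hx]; rfl
    let u : {j // x j ≠ 0} → V := fun j => (x j.1 : V)
    have hli := D4Deg.eig_li f u (fun j => c j.1) (fun j a => hT j.1 _ (x j.1).2 a)
      (fun j e => j.2 (Subtype.ext e)) (fun i j e => Subtype.ext (hc e))
    obtain ⟨j0, hj0⟩ := Function.ne_iff.1 hne
    refine one_ne_zero (Fintype.linearIndependent_iff.1 hli (fun _ => 1) ?_ ⟨j0, hj0⟩)
    simp only [one_smul, u]
    rw [← Finset.sum_subtype (Finset.univ.filter fun j => x j ≠ 0) (by simp)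
      (fun j => (x j : V))]
    rw [Finset.sum_filter_of_ne (p := fun j => x j ≠ 0)
      (fun j _ (h : (x j : V) ≠ 0) => fun (e : x j = 0) => h (by rw [e]; rfl))]
    exact h0
  have := LinearMap.finrank_le_finrank_of_injective hinj
  rwa [finrank_pi_fintype] at this

/-- One column of the pairing meets only the given row. -/
def ndB (n : ℕ) (κ : ℕ → ℕ → ℤ) (A B : List ℕ) : Bool :=
  A.all (fun a => decide (a < n)) &&
  B.all fun b => A.any fun a => (decide (κ a b = 1) || decide (κ a b = -1)) &&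
    B.all fun b' => (b' == b) || decide (κ a b' = 0)

variable {D : ChevalleyDatum} {K : Type*} [Field K] {Q : Chev.Data D K} {q : ℕ} (S : Setup Q q)

namespace Setup

theorem lin_ne {a : ℕ} (ha : a < D.nroots) (hτ : S.τ a ≠ a) {c C : K} (hc : c ≠ 0) :
    ∃ t, c * t + C * S.f a t ≠ 0 := by
  by_contra h
  push Not at h
  obtain ⟨t0, ht0⟩ := S.moved a ha hτ
  have e1 := h 1
  have e2 := h t0
  rw [f_apply, map_one, mul_one, mul_one] at e1
  rw [f_apply] at e2
  exact ht0 ((mul_left_cancel₀ hc (by linear_combination (-1 : K) * e2 + S.φ t0 * e1 :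
    c * S.φ t0 = c * t0)))

/-- The two-sided form. -/
def form (κ : ℕ → ℕ → ℤ) (A B : List ℕ) (u v : ℕ → K) : K :=
  -∑ b ∈ B.toFinset, ∑ a ∈ A.toFinset, (κ a b : K) * u a * v b

theorem form_flip (κ : ℕ → ℕ → ℤ) (A B : List ℕ) (u v : ℕ → K) :
    form κ A B u v = form (fun b a => κ a b) B A v u := by
  rw [form, form, Finset.sum_comm]
  simp only [mul_right_comm]

/-- No fixed vector of `B` pairs trivially with all of those of `A`. -/
theorem exists_form_ne {κ : ℕ → ℕ → ℤ} {A B : List ℕ} (hA : Ab D S.τ A)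
    (h : ndB D.nroots κ A B = true) {v : S.FV B} (hv : v ≠ 0) :
    ∃ u : S.FV A, form κ A B (u : ℕ → K) (v : ℕ → K) ≠ 0 := by
  classical
  simp only [ndB, Bool.and_eq_true, List.all_eq_true, List.any_eq_true, decide_eq_true_eq,
    Bool.or_eq_true, beq_iff_eq] at h
  obtain ⟨b, hb, hvb⟩ : ∃ b ∈ B, (v : ℕ → K) b ≠ 0 := by
    by_contra hc
    push Not at hc
    exact hv (S.FV_ext fun r hr => by rw [hc r hr]; rfl)
  obtain ⟨a, ha, hκ, hrow⟩ := h.2 b hb
  have han := hA.lt ha
  have hc : (κ a b : K) * (v : ℕ → K) b ≠ 0 := by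
    refine mul_ne_zero ?_ hvb
    rcases hκ with e | e <;> simp [e]
  have row : ∑ b' ∈ B.toFinset, (κ a b' : K) * (v : ℕ → K) b' = (κ a b : K) * (v : ℕ → K) b := by
    rw [Finset.sum_eq_single b (fun b' hb' hne => by
      rw [(hrow b' (List.mem_toFinset.1 hb')).resolve_left hne]; simp)
      (fun hn => absurd (List.mem_toFinset.2 hb) hn)]
  have hmem : ∀ x, x ∉ A → x ∉ orb S.τ a := fun x hx hxo => by
    unfold orb at hxo
    split at hxo <;> simp only [List.mem_cons, List.not_mem_nil, or_false] at hxo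
    · exact hx (hxo ▸ ha)
    · rcases hxo with rfl | rfl
      exacts [hx ha, hx (hA.mem a ha)]
  have mk : ∀ {t : K}, (S.τ a = a → S.f a t = t) → S.ov a t ∈ S.FV A := fun {t} ht => by
    obtain ⟨h1, h2⟩ := S.ov_mem han ht
    refine ⟨fun x hx => h1 x (hmem x hx), fun x hx => ?_⟩
    by_cases hxo : x ∈ orb S.τ a
    · exact h2 x hxo
    · have : S.τ x ∉ orb S.τ a := fun h' => hxo (by
        unfold orb at h' ⊢
        split <;> rename_i hτ <;> simp only [hτ, if_true, if_false, List.mem_cons,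
          List.not_mem_nil, or_false] at h' ⊢
        · rw [← S.ττ x (hA.lt hx), h', hτ]
        · rcases h' with h' | h'
          · exact Or.inr (by rw [← S.ττ x (hA.lt hx), h'])
          · exact Or.inl (by rw [← S.ττ x (hA.lt hx), h', S.ττ a han]))
      rw [h1 x hxo, h1 _ this, map_zero]
  by_cases hτ : S.τ a = a
  · obtain ⟨w, hw0, hw⟩ := S.pt a han hτ
    refine ⟨⟨S.ov a w, mk fun _ => hw⟩, ?_⟩
    rw [form, neg_ne_zero, Finset.sum_comm, Finset.sum_eq_single a
      (fun x _ hx => by simp [ov, hx, hτ]) (fun hn => absurd (List.mem_toFinset.2 ha) hn)]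
    simp only [ov, if_true]
    rw [show ∑ b' ∈ B.toFinset, (κ a b' : K) * w * (v : ℕ → K) b' =
      w * ∑ b' ∈ B.toFinset, (κ a b' : K) * (v : ℕ → K) b' by
        rw [Finset.mul_sum]; exact Finset.sum_congr rfl fun _ _ => by ring, row]
    exact mul_ne_zero hw0 hc
  · set C := ∑ b' ∈ B.toFinset, (κ (S.τ a) b' : K) * (v : ℕ → K) b'
    obtain ⟨t, ht⟩ := S.lin_ne han hτ (C := C) hc
    refine ⟨⟨S.ov a t, mk fun e => absurd e hτ⟩, ?_⟩
    rw [form, neg_ne_zero, Finset.sum_comm, Finset.sum_eq_add a (S.τ a) (Ne.symm hτ)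
      (fun x _ hx => by simp [ov, hx.1, hx.2])
      (fun hn => absurd (List.mem_toFinset.2 ha) hn)
      (fun hn => absurd (List.mem_toFinset.2 (hA.mem a ha)) hn)]
    have e1 : S.ov a t a = t := by simp [ov]
    have e2 : S.ov a t (S.τ a) = S.f a t := by simp [ov, hτ]
    simp only [e1, e2]
    rw [show ∑ b' ∈ B.toFinset, (κ a b' : K) * t * (v : ℕ → K) b' =
      t * ∑ b' ∈ B.toFinset, (κ a b' : K) * (v : ℕ → K) b' by
        rw [Finset.mul_sum]; exact Finset.sum_congr rfl fun _ _ => by ring, row,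
      show ∑ b' ∈ B.toFinset, (κ (S.τ a) b' : K) * S.f a t * (v : ℕ → K) b' = S.f a t * C by
        rw [Finset.mul_sum]; exact Finset.sum_congr rfl fun _ _ => by ring]
    rwa [mul_comm t, mul_comm (S.f a t)]

/-- A centre with two families paired over it. -/
structure Datum (z : ℕ) (A B : List ℕ) : Prop where
  zab : Ab D S.τ [z]
  closed : closedListB D Q.K.cf [z] = true
  Aab : Ab D S.τ A
  Bab : Ab D S.τ B
  bil : bilinB D [z] A B = true
  ndA : ndB D.nroots (fun a b => kap D z a b) A B = true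
  ndB : ndB D.nroots (fun b a => kap D z a b) B A = true
  torus : S.TorusAt z

variable {S} {z : ℕ} {A B : List ℕ} (d : S.Datum z A B)

namespace Datum

include d

theorem z_fix {k : S.FV [z]} : S.f z ((k : ℕ → K) z) = (k : ℕ → K) z := by
  have e := k.2.2 z (by simp)
  rw [List.mem_singleton.1 (d.zab.mem z (by simp))] at e
  exact e.symm

theorem commA : commB D (A ++ [z]) = true := by
  have := d.bil
  simp only [bilinB, Bool.and_eq_true] at this
  exact this.1.1.1

theorem commB' : commB D (B ++ [z]) = true := by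
  have := d.bil
  simp only [bilinB, Bool.and_eq_true] at this
  exact this.1.1.2

/-- The value of the pairing. -/
noncomputable def w (u : S.FV A) (v : S.FV B) : S.FV [z] :=
  (S.el_swap d.bil d.Aab d.Bab d.zab d.closed u v).choose

theorem w_z (u : S.FV A) (v : S.FV B) : (d.w u v : ℕ → K) z =
    form (fun a b => kap D z a b) A B (u : ℕ → K) (v : ℕ → K) :=
  (S.el_swap d.bil d.Aab d.Bab d.zab d.closed u v).choose_spec.1 z (by simp)

theorem swap (u : S.FV A) (v : S.FV B) :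
    S.el d.Aab u * S.el d.Bab v = S.el d.Bab v * S.el d.Aab u * S.el d.zab (-d.w u v) := by
  have e := (S.el_swap d.bil d.Aab d.Bab d.zab d.closed u v).choose_spec.2
  rw [e, mul_assoc _ _ (S.el d.zab _), ← S.el_add]
  change _ = _ * S.el d.zab (d.w u v + -d.w u v)
  rw [add_neg_cancel, S.el_zero, mul_one]

theorem z_ext {a b : S.FV [z]} (h : (a : ℕ → K) z = (b : ℕ → K) z) : a = b :=
  S.FV_ext fun r hr => by rw [List.mem_singleton.1 hr]; exact h

theorem w_add_left (u u' : S.FV A) (v : S.FV B) : d.w (u + u') v = d.w u v + d.w u' v := by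
  refine d.z_ext ?_
  rw [AddSubgroup.coe_add, Pi.add_apply, d.w_z, d.w_z, d.w_z, form, form, form, ← neg_add,
    ← Finset.sum_add_distrib]
  refine congrArg Neg.neg (Finset.sum_congr rfl fun b _ => ?_)
  rw [← Finset.sum_add_distrib]
  exact Finset.sum_congr rfl fun a _ => by
    rw [AddSubgroup.coe_add, Pi.add_apply]; ring

theorem w_add_right (u : S.FV A) (v v' : S.FV B) : d.w u (v + v') = d.w u v + d.w u v' := by
  refine d.z_ext ?_
  rw [AddSubgroup.coe_add, Pi.add_apply, d.w_z, d.w_z, d.w_z, form, form, form, ← neg_add,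
    ← Finset.sum_add_distrib]
  refine congrArg Neg.neg (Finset.sum_congr rfl fun b _ => ?_)
  rw [← Finset.sum_add_distrib]
  exact Finset.sum_congr rfl fun a _ => by
    rw [AddSubgroup.coe_add, Pi.add_apply]; ring

theorem w_mul_left (μ : S.F) (u : S.FV A) (v : S.FV B) :
    d.w (S.mulF A μ u) v = S.mulF [z] μ (d.w u v) := by
  refine d.z_ext ?_
  rw [mulF_apply, d.w_z, d.w_z, form, form, mul_neg, Finset.mul_sum]
  refine congrArg Neg.neg (Finset.sum_congr rfl fun b _ => ?_)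
  rw [Finset.mul_sum]
  exact Finset.sum_congr rfl fun a _ => by rw [mulF_apply]; ring

/-- Any non-zero value generates over the fixed field. -/
theorem exists_mul {k : S.FV [z]} (hk : k ≠ 0) (s : S.FV [z]) : ∃ μ : S.F, S.mulF [z] μ k = s := by
  have hk0 : (k : ℕ → K) z ≠ 0 := fun e => hk (d.z_ext (by rw [e]; rfl))
  have hμ : S.φ ((s : ℕ → K) z / (k : ℕ → K) z) = (s : ℕ → K) z / (k : ℕ → K) z := by
    have e1 := d.z_fix (k := s)
    have e2 := d.z_fix (k := k)
    rw [f_apply] at e1 e2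
    rw [map_div₀]
    conv_rhs => rw [← e1, ← e2]
    rw [mul_div_mul_left _ _ (S.sg_ne z)]
  exact ⟨⟨_, hμ⟩, d.z_ext (by rw [mulF_apply]; exact div_mul_cancel₀ _ hk0)⟩

theorem eq_one_of_line {k : S.FV [z]} (hk : k ≠ 0) {ζ : AddChar (S.FV [z]) ℂ}
    (h : ∀ μ : S.F, ζ (S.mulF [z] μ k) = 1) : ζ = 1 := by
  ext s
  obtain ⟨μ, rfl⟩ := d.exists_mul hk s
  rw [h, AddChar.one_apply]

/-- The characters obtained from `B`. -/
noncomputable def chA (ζ : AddChar (S.FV [z]) ℂ) (v : S.FV B) : AddChar (S.FV A) ℂ where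
  toFun u := ζ (-d.w u v)
  map_zero_eq_one' := by
    have : d.w 0 v = 0 := by
      have e := d.w_add_left 0 0 v
      rw [add_zero] at e
      exact left_eq_add.1 e
    rw [this, neg_zero, AddChar.map_zero_eq_one]
  map_add_eq_mul' u u' := by rw [d.w_add_left, neg_add, AddChar.map_add_eq_mul]

/-- The characters obtained from `A`. -/
noncomputable def chB (ζ : AddChar (S.FV [z]) ℂ) (u : S.FV A) : AddChar (S.FV B) ℂ where
  toFun v := ζ (-d.w u v)
  map_zero_eq_one' := by
    have : d.w u 0 = 0 := by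
      have e := d.w_add_right u 0 0
      rw [add_zero] at e
      exact left_eq_add.1 e
    rw [this, neg_zero, AddChar.map_zero_eq_one]
  map_add_eq_mul' v v' := by rw [d.w_add_right, neg_add, AddChar.map_add_eq_mul]

theorem chA_inj {ζ : AddChar (S.FV [z]) ℂ} (hζ : ζ ≠ 1) : Function.Injective (d.chA ζ) := by
  intro v v' e
  by_contra hne
  obtain ⟨u, hu⟩ := S.exists_form_ne d.Aab d.ndA (sub_ne_zero.2 hne)
  rw [← d.w_z] at hu
  have hk : -d.w u (v - v') ≠ 0 := fun e0 => hu (by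
    rw [neg_eq_zero.1 e0]; rfl)
  refine hζ (d.eq_one_of_line hk fun μ => ?_)
  rw [map_neg, ← d.w_mul_left]
  have e' := DFunLike.congr_fun e (S.mulF A μ u)
  change ζ (-d.w _ v) = ζ (-d.w _ v') at e'
  have e3 : d.w (S.mulF A μ u) (v - v') = d.w (S.mulF A μ u) v - d.w (S.mulF A μ u) v' := by
    rw [eq_sub_iff_add_eq, ← d.w_add_right, sub_add_cancel]
  rw [e3, neg_sub', AddChar.map_sub_eq_div, e', div_self (AddChar.val_isUnit ζ _).ne_zero]

theorem w_mul_right (μ : S.F) (u : S.FV A) (v : S.FV B) :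
    d.w u (S.mulF B μ v) = S.mulF [z] μ (d.w u v) := by
  refine d.z_ext ?_
  rw [mulF_apply, d.w_z, d.w_z, form, form, mul_neg, Finset.mul_sum]
  refine congrArg Neg.neg (Finset.sum_congr rfl fun b _ => ?_)
  rw [Finset.mul_sum]
  exact Finset.sum_congr rfl fun a _ => by rw [mulF_apply]; ring

theorem chB_inj {ζ : AddChar (S.FV [z]) ℂ} (hζ : ζ ≠ 1) : Function.Injective (d.chB ζ) := by
  intro u u' e
  by_contra hne
  obtain ⟨v, hv⟩ := S.exists_form_ne d.Bab d.ndB (sub_ne_zero.2 hne)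
  rw [← form_flip, ← d.w_z] at hv
  have hk : -d.w (u - u') v ≠ 0 := fun e0 => hv (by
    rw [neg_eq_zero.1 e0]; rfl)
  refine hζ (d.eq_one_of_line hk fun μ => ?_)
  rw [map_neg, ← d.w_mul_right]
  have e' := DFunLike.congr_fun e (S.mulF B μ v)
  change ζ (-d.w u _) = ζ (-d.w u' _) at e'
  have e3 : d.w (u - u') (S.mulF B μ v) = d.w u (S.mulF B μ v) - d.w u' (S.mulF B μ v) := by
    rw [eq_sub_iff_add_eq, ← d.w_add_left, sub_add_cancel]
  rw [e3, neg_sub', AddChar.map_sub_eq_div, e', div_self (AddChar.val_isUnit ζ _).ne_zero]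

theorem chA_bij [Finite K] {ζ : AddChar (S.FV [z]) ℂ} (hζ : ζ ≠ 1) :
    Function.Bijective (d.chA ζ) := by
  classical
  letI := Fintype.ofFinite (S.FV A)
  letI := Fintype.ofFinite (S.FV B)
  have h1 : Fintype.card (S.FV B) ≤ Fintype.card (S.FV A) :=
    (Fintype.card_le_of_injective _ (d.chA_inj hζ)).trans AddChar.card_eq.le
  have h2 : Fintype.card (S.FV A) ≤ Fintype.card (S.FV B) :=
    (Fintype.card_le_of_injective _ (d.chB_inj hζ)).trans AddChar.card_eq.le
  exact (Fintype.bijective_iff_injective_and_card _).2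
    ⟨d.chA_inj hζ, (le_antisymm h1 h2).trans AddChar.card_eq.symm⟩

/-- The characters of the central root subgroup are the multiples of a non-trivial one. -/
theorem exists_scale [Finite K] {ψ ε : AddChar (S.FV [z]) ℂ} (hψ : ψ ≠ 1) (hε : ε ≠ 1) :
    ∃ μ : S.Fˣ, ∀ s, ψ (S.mulF [z] ((μ⁻¹ : S.Fˣ) : S.F) s) = ε s := by
  classical
  letI : Fintype S.F := Fintype.ofFinite _
  letI := Fintype.ofFinite (S.FV [z])
  obtain ⟨k, hk⟩ : ∃ k : S.FV [z], k ≠ 0 := by
    by_contra hc
    push Not at hc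
    exact hψ (by ext s; rw [hc s, AddChar.map_zero_eq_one, AddChar.one_apply])
  let e : S.F → AddChar (S.FV [z]) ℂ := fun μ => ψ.compAddMonoidHom (S.mulF [z] μ)
  have he : Function.Injective e := by
    intro x y hxy
    by_contra hne
    refine hψ (d.eq_one_of_line hk fun μ => ?_)
    have hm : S.mulF [z] μ k = S.mulF [z] x (S.mulF [z] (μ / (x - y)) k) -
        S.mulF [z] y (S.mulF [z] (μ / (x - y)) k) := by
      refine d.z_ext ?_
      rw [AddSubgroup.coe_sub, Pi.sub_apply]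
      simp only [mulF_apply]
      rw [← sub_mul, ← AddSubgroupClass.coe_sub, ← mul_assoc, ← Subfield.coe_mul,
        mul_div_cancel₀ _ (sub_ne_zero.2 hne)]
    have h1 := DFunLike.congr_fun hxy (S.mulF [z] (μ / (x - y)) k)
    change ψ _ = ψ _ at h1
    rw [hm, AddChar.map_sub_eq_div, h1, div_self (AddChar.val_isUnit ψ _).ne_zero]
  have hcard : Fintype.card (S.FV [z]) ≤ Fintype.card S.F :=
    Fintype.card_le_of_surjective (fun μ => S.mulF [z] μ k) (d.exists_mul hk)
  obtain ⟨x, hx⟩ := ((Fintype.bijective_iff_injective_and_card e).2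
    ⟨he, le_antisymm (Fintype.card_le_of_injective _ he)
      (AddChar.card_eq.le.trans hcard)⟩).2 ε
  have hx0 : x ≠ 0 := by
    rintro rfl
    refine hε ?_
    rw [← hx]
    ext s
    show ψ (S.mulF [z] 0 s) = 1
    rw [show S.mulF [z] 0 s = 0 from d.z_ext (by rw [mulF_apply]; simp), AddChar.map_zero_eq_one]
  refine ⟨(Units.mk0 x hx0)⁻¹, fun s => ?_⟩
  rw [inv_inv, ← hx]
  rfl

variable {V : Type*} [AddCommGroup V] [Module ℂ V] (π : Representation ℂ ↥S.P V)

/-- The vectors of `W` with central character `ζ` fixed by `A`. -/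
def M (W : Submodule ℂ V) (ζ : AddChar (S.FV [z]) ℂ) : Submodule ℂ V where
  carrier := {w | w ∈ W ∧ (∀ u, π (S.el d.Aab u) w = w) ∧ ∀ s, π (S.el d.zab s) w = ζ s • w}
  add_mem' {a b} ha hb := ⟨W.add_mem ha.1 hb.1, fun u => by rw [map_add, ha.2.1 u, hb.2.1 u],
    fun s => by rw [map_add, ha.2.2 s, hb.2.2 s, smul_add]⟩
  zero_mem' := ⟨W.zero_mem, fun _ => map_zero _, fun _ => by rw [map_zero, smul_zero]⟩
  smul_mem' c a h := ⟨W.smul_mem c h.1, fun u => by rw [map_smul, h.2.1 u],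
    fun s => by rw [map_smul, h.2.2 s, smul_comm]⟩

/-- The vectors of `W` fixed by the central root subgroup. -/
def Wz (W : Submodule ℂ V) : Submodule ℂ V where
  carrier := {w | w ∈ W ∧ ∀ s, π (S.el d.zab s) w = w}
  add_mem' {a b} ha hb := ⟨W.add_mem ha.1 hb.1, fun s => by rw [map_add, ha.2 s, hb.2 s]⟩
  zero_mem' := ⟨W.zero_mem, fun _ => map_zero _⟩
  smul_mem' c a h := ⟨W.smul_mem c h.1, fun s => by rw [map_smul, h.2 s]⟩

variable {π} {T : List ℕ}

theorem B_eig {ζ : AddChar (S.FV [z]) ℂ} {y : V} (hy : ∀ s, π (S.el d.zab s) y = ζ s • y)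
    (v : S.FV B) (s : S.FV [z]) :
    π (S.el d.zab s) (π (S.el d.Bab v) y) = ζ s • π (S.el d.Bab v) y := by
  rw [← Module.End.mul_apply, ← map_mul, ← S.el_comm d.commB' d.Bab d.zab v s, map_mul,
    Module.End.mul_apply, hy, map_smul]

theorem A_eig {ζ : AddChar (S.FV [z]) ℂ} {y : V} (hy : ∀ s, π (S.el d.zab s) y = ζ s • y)
    (v : S.FV B) (u : S.FV A) {c : ℂ} (hu : π (S.el d.Aab u) y = c • y) :
    π (S.el d.Aab u) (π (S.el d.Bab v) y) = (c * d.chA ζ v u) • π (S.el d.Bab v) y := by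
  rw [← Module.End.mul_apply, ← map_mul, d.swap, map_mul, map_mul, Module.End.mul_apply,
    Module.End.mul_apply, hy, map_smul, hu, map_smul, map_smul, smul_smul, mul_comm]
  rfl

/-- A moved central element gives a non-trivial character with a non-zero vector fixed by `A`. -/
theorem exists_M [Finite K] [FiniteDimensional ℂ V] (hA : normB D A T = true)
    (hB : normB D B T = true) (hz : normB D [z] T = true) {w0 : V} (hw0 : w0 ∈ S.Fx π T)
    {s0 : S.FV [z]} (hmv : π (S.el d.zab s0) w0 ≠ w0) :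
    ∃ ζ : AddChar (S.FV [z]) ℂ, ζ ≠ 1 ∧ ∃ y ∈ d.M π (S.Fx π T) ζ, y ≠ 0 := by
  let X : S.FV [z] ⊕ S.FV A → ↥S.P := Sum.elim (S.el d.zab) (S.el d.Aab)
  have hinv : ∀ a, ∀ w ∈ S.Fx π T, π (X a) w ∈ S.Fx π T := by
    rintro (a | a) w hw
    exacts [S.Fx_norm π d.zab hz a hw, S.Fx_norm π d.Aab hA a hw]
  have hX : ∀ a b, X a * X b = X b * X a := by
    rintro (a | a) (b | b) <;> simp only [X, Sum.elim_inl, Sum.elim_inr]
    · rw [← S.el_add, ← S.el_add, add_comm]
    · exact (S.el_comm d.commA d.Aab d.zab b a).symm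
    · exact S.el_comm d.commA d.Aab d.zab a b
    · rw [← S.el_add, ← S.el_add, add_comm]
  obtain ⟨u, hu, hu0, heig, humv⟩ := D4Deg.exists_eig_moved π X (S.Fx π T) hinv
    (fun a b w _ => by
      rw [← Module.End.mul_apply, ← map_mul, hX, map_mul, Module.End.mul_apply])
    (a0 := Sum.inl s0) hw0 hmv
  obtain ⟨ζ, hζ⟩ := D4Deg.exists_addChar π (S.el d.zab) (S.el_add d.zab) hu0
    fun s => heig (Sum.inl s)
  obtain ⟨α, hα⟩ := D4Deg.exists_addChar π (S.el d.Aab) (S.el_add d.Aab) hu0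
    fun s => heig (Sum.inr s)
  have hζ1 : ζ ≠ 1 := fun e => humv (by
    show π (S.el d.zab s0) u = u
    rw [hζ, e, AddChar.one_apply, one_smul])
  obtain ⟨v, hv⟩ := (d.chA_bij hζ1).2 α⁻¹
  refine ⟨ζ, hζ1, π (S.el d.Bab v) u, ⟨S.Fx_norm π d.Bab hB v hu, fun a => ?_, d.B_eig hζ v⟩,
    S.act_ne π _ hu0⟩
  rw [d.A_eig hζ v a (hα a), hv, ← AddChar.mul_apply, mul_inv_cancel, AddChar.one_apply, one_smul]

/-- The inequality. -/
theorem count [Finite K] [FiniteDimensional ℂ V] (hT : ∀ r ∈ T, r < D.nroots)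
    (hB : normB D B T = true) {ζ : AddChar (S.FV [z]) ℂ} (hζ : ζ ≠ 1) :
    (q - 1) * (Nat.card (S.FV B) * finrank ℂ (d.M π (S.Fx π T) ζ)) +
      finrank ℂ (d.Wz π (S.Fx π T)) ≤ finrank ℂ (S.Fx π T) := by
  classical
  letI : Fintype S.F := Fintype.ofFinite _
  letI := Fintype.ofFinite (S.FV B)
  set W := S.Fx π T with hW
  let Wζ : Submodule ℂ V :=
    { carrier := {w | w ∈ W ∧ ∀ s, π (S.el d.zab s) w = ζ s • w}
      add_mem' := fun {a b} ha hb =>
        ⟨W.add_mem ha.1 hb.1, fun s => by rw [map_add, ha.2 s, hb.2 s, smul_add]⟩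
      zero_mem' := ⟨W.zero_mem, fun _ => by rw [map_zero, smul_zero]⟩
      smul_mem' := fun c a h =>
        ⟨W.smul_mem c h.1, fun s => by rw [map_smul, h.2 s, smul_comm]⟩ }
  have h1 : Nat.card (S.FV B) * finrank ℂ (d.M π W ζ) ≤ finrank ℂ Wζ := by
    refine le_trans (le_of_eq ?_) (joint_le (fun u => π (S.el d.Aab u))
      (fun v u => d.chA ζ v u) (fun v v' e => d.chA_inj hζ (DFunLike.ext _ _ (congrFun e))) Wζ
      (fun v => (d.M π W ζ).map (π (S.el d.Bab v))) ?_ ?_)
    · rw [Finset.sum_congr rfl fun v _ => ((Submodule.equivMapOfInjective _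
        (S.act_inj π (S.el d.Bab v)) (d.M π W ζ)).finrank_eq).symm]
      simp
    · rintro v _ ⟨y, hy, rfl⟩ u
      rw [d.A_eig hy.2.2 v u (c := 1) (by rw [one_smul]; exact hy.2.1 u), one_mul]
    · rintro v _ ⟨y, hy, rfl⟩
      exact ⟨S.Fx_norm π d.Bab hB v hy.1, d.B_eig hy.2.2 v⟩
  have htor : ∀ μ : S.Fˣ, ∃ h : ↥S.P, (∀ w ∈ W, π h w ∈ W) ∧
      ∀ s, S.el d.zab s * h = h * S.el d.zab (S.mulF [z] ((μ⁻¹ : S.Fˣ) : S.F) s) := by
    intro μ
    obtain ⟨c, hc, hcz⟩ := d.torus (Units.map S.F.subtype.toMonoidHom μ) (μ : S.F).2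
    refine ⟨S.tP c hc, fun w hw => S.Fx_torus π hT c hc hw, fun s => Subtype.ext ?_⟩
    simp only [Subgroup.coe_mul, coe_el, tP, xprod, List.map_singleton, List.prod_singleton]
    have e := tG_conj Q c (d.zab.lt (r := z) (by simp))
      (((μ⁻¹ : S.Fˣ) : S.F) * (s : ℕ → K) z : K)
    rw [hcz, mul_inv_eq_iff_eq_mul] at e
    rw [mulF_apply, e]
    congr 2
    show (s : ℕ → K) z = ((μ : S.F) : K) * ((((μ⁻¹ : S.Fˣ) : S.F) : K) * (s : ℕ → K) z)
    rw [← mul_assoc, ← Subfield.coe_mul, ← Units.val_mul, mul_inv_cancel]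
    simp
  choose h hhW hh using htor
  let Tj : Option S.Fˣ → Submodule ℂ V := fun j => j.elim (d.Wz π W) fun μ => Wζ.map (π (h μ))
  let cj : Option S.Fˣ → S.FV [z] → ℂ := fun j => j.elim (fun _ => 1)
    fun μ s => ζ (S.mulF [z] ((μ⁻¹ : S.Fˣ) : S.F) s)
  have hk : ∃ k : S.FV [z], k ≠ 0 := by
    by_contra hc
    push Not at hc
    exact hζ (by ext s; rw [hc s, AddChar.map_zero_eq_one, AddChar.one_apply])
  obtain ⟨k, hk⟩ := hk
  have hsep : ∀ x y : S.F, (∀ s, ζ (S.mulF [z] x s) = ζ (S.mulF [z] y s)) → x = y := by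
    intro x y e
    by_contra hne
    refine hζ (d.eq_one_of_line hk fun μ => ?_)
    have hm : ∀ m, S.mulF [z] m k = S.mulF [z] x (S.mulF [z] (m / (x - y)) k) -
        S.mulF [z] y (S.mulF [z] (m / (x - y)) k) := fun m => by
      refine d.z_ext ?_
      rw [AddSubgroup.coe_sub, Pi.sub_apply]
      simp only [mulF_apply]
      rw [← sub_mul, ← AddSubgroupClass.coe_sub, ← mul_assoc, ← Subfield.coe_mul,
        mul_div_cancel₀ _ (sub_ne_zero.2 hne)]
    rw [hm, AddChar.map_sub_eq_div, e, div_self (AddChar.val_isUnit ζ _).ne_zero]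
  have hcinj : Function.Injective cj := by
    intro i j e
    rcases i with _ | μ <;> rcases j with _ | ν
    · rfl
    · exfalso
      exact Units.ne_zero ν⁻¹ ((hsep _ 0 fun s => by
        have := congrFun e s
        simp only [cj, Option.elim] at this
        rw [← this, show S.mulF [z] 0 s = 0 from d.z_ext (by rw [mulF_apply]; simp),
          AddChar.map_zero_eq_one]))
    · exfalso
      exact Units.ne_zero μ⁻¹ ((hsep _ 0 fun s => by
        have := congrFun e s
        simp only [cj, Option.elim] at this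
        rw [this, show S.mulF [z] 0 s = 0 from d.z_ext (by rw [mulF_apply]; simp),
          AddChar.map_zero_eq_one]))
    · exact congrArg some (inv_injective (Units.ext (hsep _ _ fun s => congrFun e s)))
  have h2 := joint_le (fun s => π (S.el d.zab s)) cj hcinj W Tj ?_ ?_
  · rw [Fintype.sum_option] at h2
    have hconst : ∀ μ : S.Fˣ, finrank ℂ (Tj (some μ)) = finrank ℂ Wζ := fun μ =>
      ((Submodule.equivMapOfInjective _ (S.act_inj π (h μ)) Wζ).finrank_eq).symm
    rw [Finset.sum_congr rfl fun μ _ => hconst μ, Finset.sum_const, Finset.card_univ, smul_eq_mul,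
      ← Nat.card_eq_fintype_card, Nat.card_units, S.card_field] at h2
    have h3 := Nat.mul_le_mul_left (q - 1) h1
    change finrank ℂ (d.Wz π W) + _ ≤ _ at h2
    calc (q - 1) * (Nat.card (S.FV B) * finrank ℂ (d.M π W ζ)) + finrank ℂ (d.Wz π W)
        ≤ (q - 1) * finrank ℂ Wζ + finrank ℂ (d.Wz π W) := Nat.add_le_add_right h3 _
      _ ≤ finrank ℂ W := by rw [add_comm]; exact h2
  · rintro (_ | μ) w hw s
    · simpa [cj] using hw.2 s
    · obtain ⟨y, hy, rfl⟩ := hw
      show π (S.el d.zab s) (π (h μ) y) = ζ (S.mulF [z] _ s) • π (h μ) y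
      rw [← Module.End.mul_apply, ← map_mul, hh, map_mul, Module.End.mul_apply, hy.2, map_smul]
  · rintro (_ | μ) w hw
    · exact hw.1
    · obtain ⟨y, hy, rfl⟩ := hw
      exact hhW μ y hy.1

end Datum

end Setup

end Cfsg.Agent.H38.HeisDeg
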