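import Cfsg.Agent.H38.HeisDeg.Gen

/-!
The steps of the filtration by fixed spaces in the Heisenberg parabolic: the centre, the cells, and
the vector fixed by all positive root subgroups but one that a second simple root moves.
-/
set_option autoImplicit false

namespace Cfsg.Agent.H38.HeisDeg

open Cfsg.Lie Cfsg.Agent.H37 Cfsg.Agent.H37.RootSys Cfsg.Agent.H37.Twist Cfsg.Agent.H37.NormalForm
open Module

/-- The checks for a datum. -/
def datumB (D : ChevalleyDatum) (cf : ℕ → ℕ → ℤ) (τ : ℕ → ℕ) (z : ℕ) (A B : List ℕ) : Bool :=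
  abB D τ [z] && closedListB D cf [z] && abB D τ A && abB D τ B && bilinB D [z] A B &&
  ndB D.nroots (fun a b => kap D z a b) A B && ndB D.nroots (fun b a => kap D z a b) B A

/-- The checks for a cell. -/
def cellB (D : ChevalleyDatum) (cf : ℕ → ℕ → ℤ) (w : ℕ → ℕ → ℕ) (sg : ℕ → ℕ → ℤ) (τ : ℕ → ℕ)
    (z : ℕ) (A B F F' ws T0 : List ℕ) (z0 : ℕ) : Bool :=
  datumB D cf τ z A B && orbsB τ B && normB D A F && normB D B F && normB D [z] F &&
  backB D w sg ws F T0 && decide ((img D w sg ws z0).1 = z) &&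
  (F.all fun r => F'.contains r) && F'.contains z && abB D τ [z0]

variable {D : ChevalleyDatum} {K : Type*} [Field K] {Q : Chev.Data D K} {q : ℕ} (S : Setup Q q)

namespace Setup

theorem Datum.of_check {z : ℕ} {A B : List ℕ} (h : datumB D Q.K.cf S.τ z A B = true)
    (ht : S.TorusAt z) : S.Datum z A B := by
  simp only [datumB, Bool.and_eq_true] at h
  obtain ⟨⟨⟨⟨⟨⟨h1, h2⟩, h3⟩, h4⟩, h5⟩, h6⟩, h7⟩ := h
  exact ⟨Ab.of_check h1, h2, Ab.of_check h3, Ab.of_check h4, h5, h6, h7, ht⟩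

theorem orb_fixed {r : ℕ} (h : S.τ r = r) : orb S.τ r = [r] := by rw [orb, if_pos h]

theorem mem_Fx_single {a : ℕ} (hn : nilB D Q.K.cf S.τ [a] = true) {V : Type*} [AddCommGroup V]
    [Module ℂ V] {π : Representation ℂ ↥S.P V} {w : V} (hw : S.Triv π w [a]) :
    w ∈ S.Fx π [a] := by
  refine S.mem_Fx π hn fun r hr => ?_
  rw [List.mem_singleton] at hr
  subst hr
  have : S.τ r = r := by
    simp only [nilB, Bool.and_eq_true, List.all_eq_true, List.contains_iff_mem] at hn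
    exact List.mem_singleton.1 (hn.1.2 r (by simp))
  rw [S.orb_fixed this]
  exact hw

variable {V : Type*} [AddCommGroup V] [Module ℂ V] [FiniteDimensional ℂ V] [Finite K]
  {π : Representation ℂ ↥S.P V}

/-- One cell. -/
theorem cell {z : ℕ} {A B F F' ws T0 : List ℕ} {z0 : ℕ}
    (h : cellB D Q.K.cf Q.K.w Q.K.sg S.τ z A B F F' ws T0 z0 = true) (ht : S.TorusAt z)
    (hf : S.σ (nw Q ws) = nw Q ws) {x : V} (hx : x ∈ S.Fx π T0)
    (hmv : ∃ (h : Ab D S.τ [z0]) (s : S.FV [z0]), π (S.el h s) x ≠ x) :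
    (q - 1) * q ^ B.length + finrank ℂ (S.Fx π F') ≤ finrank ℂ (S.Fx π F) := by
  simp only [cellB, Bool.and_eq_true, decide_eq_true_eq] at h
  obtain ⟨⟨⟨⟨⟨⟨⟨⟨⟨hd, ho⟩, hA⟩, hB⟩, hz⟩, hb⟩, himg⟩, hFF⟩, hzF⟩, -⟩ := h
  have d := Datum.of_check S hd ht
  obtain ⟨hz0, s0, hs0⟩ := hmv
  obtain ⟨hw, s, hs⟩ := S.moved_word hf hb hz0 d.zab himg hx hs0
  obtain ⟨ζ, hζ, y, hy, hy0⟩ := d.exists_M hA hB hz hw hs
  have hFlt : ∀ r ∈ F, r < D.nroots := by
    simp only [backB, Bool.and_eq_true, List.all_eq_true, decide_eq_true_eq] at hb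
    exact fun r hr => (hb.2 r hr).1.1.1
  have h1 := d.count (π := π) hFlt hB hζ
  have hpos : 1 ≤ finrank ℂ (d.M π (S.Fx π F) ζ) :=
    finrank_pos_iff_exists_ne_zero.2 ⟨⟨y, hy⟩, fun e => hy0 (congrArg Subtype.val e)⟩
  have h2 : finrank ℂ (S.Fx π F') ≤ finrank ℂ (d.Wz π (S.Fx π F)) := by
    simp only [List.all_eq_true, List.contains_iff_mem] at hFF hzF
    exact Submodule.finrank_mono fun w hw => ⟨S.Fx_anti π hFF hw,
      fun u => S.Fx_el π d.zab (fun r hr => List.mem_singleton.1 hr ▸ hzF) u hw⟩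
  rw [S.card_FV B d.Bab ho] at h1
  have h3 : q ^ B.length ≤ q ^ B.length * finrank ℂ (d.M π (S.Fx π F) ζ) :=
    Nat.le_mul_of_pos_right _ hpos
  have := Nat.mul_le_mul_left (q - 1) h3
  omega

/-- The centre: the bound, and a vector it fixes that the lowest root moves. -/
theorem centre {Z a : ℕ} {A B ws : List ℕ} (hd : datumB D Q.K.cf S.τ Z A B = true)
    (ho : orbsB S.τ B = true) (ht : S.TorusAt Z) (ha : a ∈ A) (haZ : nilB D Q.K.cf S.τ [a] = true)
    (hf : S.σ (nw Q ws) = nw Q ws) (hb : backB D Q.K.w Q.K.sg ws [Z] [a] = true)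
    (hab : Ab D S.τ [a]) (hmv : ∃ (h : Ab D S.τ [Z]) (s : S.FV [Z]), π (S.el h s) ≠ 1) :
    (q - 1) * q ^ B.length + finrank ℂ (S.Fx π [Z]) ≤ finrank ℂ V ∧
      ∃ x ∈ S.Fx π [Z], ∃ s, π (S.el hab s) x ≠ x := by
  have d := Datum.of_check S hd ht
  obtain ⟨hZ, s0, hs0⟩ := hmv
  obtain ⟨w0, hw0⟩ : ∃ w0, π (S.el hZ s0) w0 ≠ w0 := by
    by_contra h
    push Not at h
    exact hs0 (LinearMap.ext h)
  have hn : ∀ L : List ℕ, (∀ l ∈ L, l < D.nroots) → normB D L [] = true := fun L hL => by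
    simp only [normB, passB, List.all_eq_true, List.all_nil, Bool.and_true, decide_eq_true_eq]
    exact hL
  have htop : S.Fx π ([] : List ℕ) = ⊤ := S.Fx_nil π
  have hnA := hn A fun l hl => d.Aab.lt hl
  have hnB := hn B fun l hl => d.Bab.lt hl
  obtain ⟨ζ, hζ, y, hy, hy0⟩ := d.exists_M (T := []) hnA hnB
    (hn [Z] fun l hl => d.zab.lt hl) (by rw [htop]; trivial) hw0
  refine ⟨?_, ?_⟩
  · have h1 := d.count (π := π) (T := []) (by simp) hnB hζ
    have hpos : 1 ≤ finrank ℂ (d.M π (S.Fx π []) ζ) :=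
      finrank_pos_iff_exists_ne_zero.2 ⟨⟨y, hy⟩, fun e => hy0 (congrArg Subtype.val e)⟩
    have h2 : finrank ℂ (S.Fx π [Z]) ≤ finrank ℂ (d.Wz π (S.Fx π [])) :=
      Submodule.finrank_mono fun w hw => ⟨by rw [htop]; trivial,
        fun u => S.Fx_el π d.zab (fun r hr => hr) u hw⟩
    have h0 : finrank ℂ (S.Fx π ([] : List ℕ)) = finrank ℂ V := by rw [htop, finrank_top]
    rw [S.card_FV B d.Bab ho] at h1
    have := Nat.mul_le_mul_left (q - 1) (Nat.le_mul_of_pos_right (q ^ B.length) hpos)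
    omega
  · have hya : y ∈ S.Fx π [a] :=
      S.mem_Fx_single haZ (Triv.sub (π := π) S d.Aab (fun hA u => hy.2.1 u) (by simpa using ha))
    have hyZ : y ∉ S.Fx π [Z] := fun h => by
      obtain ⟨s, hs⟩ := AddChar.ne_one_iff.1 hζ
      have e := hy.2.2 s
      rw [S.Fx_el π d.zab (fun r hr => hr) s h] at e
      exact hs (smul_left_injective ℂ hy0 (e.symm.trans (one_smul ℂ y).symm))
    by_contra hc
    push Not at hc
    have hle : S.Fx π [Z] < S.Fx π [a] := lt_of_le_of_ne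
      (fun w hw => S.mem_Fx_single haZ fun h u => hc w hw u) fun e => hyZ (e ▸ hya)
    have h1 := Submodule.finrank_lt_finrank_of_lt hle
    have h2 : (S.Fx π [a]).map (π (S.nP hf)) ≤ S.Fx π [Z] := by
      rintro _ ⟨w, hw, rfl⟩
      exact S.Fx_word hf hb hw
    have h3 := Submodule.finrank_mono h2
    rw [← (Submodule.equivMapOfInjective _ (S.act_inj π (S.nP hf)) _).finrank_eq] at h3
    omega

/-- Chains of commutator certificates. -/
theorem triv_of_certs (certs : List (ℕ × ℕ × ℕ))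
    (h : certs.all (fun c => genB D Q.K.cf S.τ c.1 c.2.1 c.2.2) = true) {x : V} (hx : x ≠ 0)
    (hs : ∀ c ∈ certs, S.Scal π x (orb S.τ c.2.1) ∧ S.Scal π x (orb S.τ c.2.2)) {r : ℕ}
    (hr : ∃ c ∈ certs, r = c.1 ∨ r = S.τ c.1) : S.Triv π x (orb S.τ r) := by
  simp only [List.all_eq_true] at h
  obtain ⟨c, hc, hr⟩ := hr
  have ht := S.triv_gen (h c hc) hx (hs c hc).1 (hs c hc).2
  rcases hr with rfl | rfl
  · exact ht
  · have hab : Ab D S.τ (orb S.τ c.1) := by
      have := h c hc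
      simp only [genB, Bool.and_eq_true] at this
      exact Ab.of_check this.1.1.1.1.1
    refine Triv.sub (π := π) S hab ht fun y hy => ?_
    have h1 := hab.mem c.1 (S.mem_orb _)
    unfold orb at hy
    split at hy <;> simp only [List.mem_cons, List.not_mem_nil, or_false] at hy
    · exact hy ▸ h1
    · rcases hy with rfl | rfl
      · exact h1
      · rw [S.ττ _ (hab.lt (S.mem_orb _))]; exact S.mem_orb _

/-- The checks for the second vector. -/
def secondB (D : ChevalleyDatum) (cf : ℕ → ℕ → ℤ) (w : ℕ → ℕ → ℕ) (sg : ℕ → ℕ → ℤ) (τ : ℕ → ℕ)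
    (a b c a' : ℕ) (wa wb : List ℕ) (A Z1 Ta T1 R Tb Tab : List ℕ) : Bool :=
  abB D τ [a'] && abB D τ [b] && abB D τ [c] &&
  backB D w sg wb T1 Ta && backB D w sg wa (A ++ Z1) R && backB D w sg wa Tab R &&
  decide ((img D w sg wb a).1 = c) && decide ((img D w sg wa c).1 = b) &&
  decide ((img D w sg wa a').1 = a) &&
  decide ((img D w sg wa.reverse a).1 = a') && decide (a < D.nroots) &&
  backB D w sg wb [a] Ta && backB D w sg wa [a] [a'] &&
  nilB D cf τ R && nilB D cf τ Tb &&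
  normB D [b] T1 && normB D [a'] R && shiftB D c [a'] R &&
  (Ta.all fun r => decide (r < D.nroots)) && Ta.contains b &&
  (R.all fun r => (r == b) || (T1.contains r && T1.contains (τ r))) &&
  (Tb.all fun r => (r == a) || (Tab.contains r && Tab.contains (τ r))) &&
  decide (τ a = a) && decide (τ b = b)

theorem second {a b c a' : ℕ} {wa wb A B Z1 Ta T1 R Tb Tab : List ℕ}
    (h : secondB D Q.K.cf Q.K.w Q.K.sg S.τ a b c a' wa wb A Z1 Ta T1 R Tb Tab = true)
    (d : S.Datum a A B) (dc : S.Datum c [a] [b])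
    (hfa : S.σ (nw Q wa) = nw Q wa) (hfb : S.σ (nw Q wb) = nw Q wb)
    {ε : AddChar (S.FV [a]) ℂ} (hε : ε ≠ 1) {v : V} (hv : v ∈ d.M π (S.Fx π Z1) ε) (hv0 : v ≠ 0)
    (hvT : v ∈ S.Fx π Ta) (hdim : finrank ℂ (d.M π (S.Fx π Z1) ε) ≤ 1) :
    ∃ x ∈ S.Fx π Tb, ∃ (hb : Ab D S.τ [b]) (s : S.FV [b]), π (S.el hb s) x ≠ x := by
  classical
  simp only [secondB, Bool.and_eq_true, decide_eq_true_eq, List.all_eq_true, Bool.or_eq_true,
    beq_iff_eq, List.contains_iff_mem] at h
  obtain ⟨⟨⟨⟨⟨⟨⟨⟨⟨⟨⟨⟨⟨⟨⟨⟨⟨⟨⟨⟨⟨⟨⟨ha', hb'⟩, hc'⟩, hbT1⟩, hbAZ⟩, hbTab⟩, hic⟩, hib⟩, hia⟩,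
    hia'⟩, han⟩, hbaTa⟩, hbaa'⟩, hnR⟩, hnTb⟩, hnb⟩, hna'⟩, hsh⟩, hTalt⟩, hbTa⟩, hR⟩, hTb⟩, hτa⟩,
    hτb⟩ := h
  have hA' := Ab.of_check ha'
  have hBb := Ab.of_check hb'
  have hC := Ab.of_check hc'
  obtain ⟨s1, hs1⟩ := AddChar.ne_one_iff.1 hε
  have hmva : π (S.el d.zab s1) v ≠ v := by
    rw [hv.2.2]
    exact fun e => hs1 (smul_left_injective ℂ hv0 (e.trans (one_smul ℂ v).symm))
  -- the translate by the second reflection
  obtain ⟨hy, sc, hsc⟩ := S.moved_word (T := T1) hfb hbT1 d.zab hC hic hvT hmva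
  set y := π (S.nP hfb) v with hy'
  have hy0 : y ≠ 0 := S.act_ne π _ hv0
  have hya : ∀ s, π (S.el d.zab s) y = y := fun s =>
    S.Fx_el π d.zab (fun _ h => h) s (S.Fx_word hfb hbaTa hvT)
  have hyc : ∀ s, ∃ k : ℂ, π (S.el hC s) y = k • y := by
    intro s
    obtain ⟨s', hs'⟩ : ∃ s', π (S.el d.zab s') v = π ((S.nP hfb)⁻¹ * S.el hC s * S.nP hfb) v := by
      have hws : ∀ i ∈ wb, i < D.rank := by
        simp only [backB, Bool.and_eq_true, List.all_eq_true, decide_eq_true_eq] at hbT1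
        exact hbT1.1
      have hz := nw_conj (Q := Q) hws han
        (((img D Q.K.w Q.K.sg wb a).2 : K) * (s : ℕ → K) c)
      rw [hic, ← mul_assoc, ← Int.cast_mul, img_sq, Int.cast_one, one_mul] at hz
      obtain ⟨s', hs'⟩ := S.el_of_single d.zab ((S.nP hfb)⁻¹ * S.el hC s * S.nP hfb)
        (k := ((img D Q.K.w Q.K.sg wb a).2 : K) * (s : ℕ → K) c) (by
          simp only [Subgroup.coe_mul, Subgroup.coe_inv, coe_el, xprod, List.map_singleton,
            List.prod_singleton, nP]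
          rw [← hz]
          group)
      exact ⟨s', by rw [hs']⟩
    refine ⟨ε s', ?_⟩
    rw [hy', S.move π, ← hs', hv.2.2, map_smul]
  obtain ⟨δ, hδ⟩ := D4Deg.exists_addChar π (S.el hC) (S.el_add hC) hy0 hyc
  have hδ1 : δ ≠ 1 := fun e => hsc (by rw [hδ, e, AddChar.one_apply, one_smul])
  letI := Fintype.ofFinite (S.FV [b])
  let w : S.FV [b] → V := fun t => π (S.el dc.Bab t) y
  have hwA : ∀ t s, π (S.el dc.Aab s) (w t) = dc.chA δ t s • w t := fun t s => by
    show π (S.el dc.Aab s) (π (S.el dc.Bab t) y) = _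
    rw [dc.A_eig (fun k => hδ k) t s (c := 1) (by rw [one_smul]; exact hya s), one_mul]
  have hli : LinearIndependent ℂ w := D4Deg.eig_li (fun s => π (S.el dc.Aab s)) w
    (fun t s => dc.chA δ t s) (fun t s => hwA t s) (fun t => S.act_ne π _ hy0)
    (fun t t' e => dc.chA_inj hδ1 (DFunLike.ext _ _ (congrFun e)))
  set x := ∑ t, w t with hx
  have hx0 : x ≠ 0 := fun e => one_ne_zero
    (Fintype.linearIndependent_iff.1 hli (fun _ => 1) (by simpa [hx] using e) 0)
  have hxc : ∀ s, π (S.el hC s) x = δ s • x := fun s => by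
    rw [hx, map_sum, Finset.smul_sum]
    exact Finset.sum_congr rfl fun t _ => dc.B_eig (fun k => hδ k) t s
  have hxT1 : x ∈ S.Fx π T1 :=
    Submodule.sum_mem _ fun t _ => S.Fx_norm π dc.Bab hnb t hy
  have hxb : ∀ u, π (S.el hBb u) x = x := fun u => by
    rw [hx, map_sum]
    refine Fintype.sum_equiv (Equiv.addLeft u) _ _ fun t => ?_
    show π (S.el hBb u) (π (S.el hBb t) y) = π (S.el hBb (u + t)) y
    rw [← Module.End.mul_apply, ← map_mul, ← S.el_add]
  have hxR : x ∈ S.Fx π R := by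
    refine S.mem_Fx π hnR fun r hr => ?_
    rcases hR r hr with rfl | ⟨h1, h2⟩
    · rw [S.orb_fixed hτb]; exact fun h u => hxb u
    · refine S.Triv_of_Fx π hxT1 fun z hz => ?_
      unfold orb at hz
      split at hz <;> simp only [List.mem_cons, List.not_mem_nil, or_false] at hz
      · exact hz ▸ h1
      · rcases hz with rfl | rfl
        exacts [h1, h2]
  let M' : Submodule ℂ V :=
    { carrier := {w | w ∈ S.Fx π R ∧ ∀ s, π (S.el hC s) w = δ s • w}
      add_mem' := fun {p r} hp hr => ⟨(S.Fx π R).add_mem hp.1 hr.1,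
        fun s => by rw [map_add, hp.2 s, hr.2 s, smul_add]⟩
      zero_mem' := ⟨(S.Fx π R).zero_mem, fun s => by rw [map_zero, smul_zero]⟩
      smul_mem' := fun k p hp => ⟨(S.Fx π R).smul_mem k hp.1,
        fun s => by rw [map_smul, hp.2 s, smul_comm]⟩ }
  have hinv : ∀ u, ∀ p ∈ M', π (S.el hA' u) p ∈ M' := fun u p hp =>
    ⟨S.Fx_norm π hA' hna' u hp.1, fun s => by
      have hmem : (S.el hC s)⁻¹ * ((S.el hA' u)⁻¹ * S.el hC s * S.el hA' u) ∈ S.PS R := by
        rw [mem_PS]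
        simp only [Subgroup.coe_mul, Subgroup.coe_inv, coe_el]
        simp only [xprod, List.map_singleton, List.prod_singleton]
        have := shift_xprod (Q := Q) (hC.lt (r := c) (by simp)) [a'] hna' hsh
          (u : ℕ → K) ((s : ℕ → K) c)
        simpa [xprod] using this
      rw [S.move π, ← mul_inv_cancel_left (S.el hC s)
          ((S.el hA' u)⁻¹ * S.el hC s * S.el hA' u), map_mul, Module.End.mul_apply,
        hp.1 _ hmem, hp.2, map_smul]⟩
  have hM'x : x ∈ M' := ⟨hxR, hxc⟩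
  have hws : ∀ i ∈ wa, i < D.rank := by
    simp only [backB, Bool.and_eq_true, List.all_eq_true, decide_eq_true_eq] at hbTab
    exact hbTab.1
  -- vectors of `M'` are fixed by the opposite of the first root
  have hfix : ∀ u, π (S.el hA' u) x = x := by
    by_contra hc0
    push Not at hc0
    obtain ⟨u0, hu0⟩ := hc0
    obtain ⟨p, hp, hp0, heig, hpmv⟩ := D4Deg.exists_eig_moved π (S.el hA') M' hinv
      (fun u u' w _ => by
        rw [← Module.End.mul_apply, ← map_mul, ← S.el_add, add_comm, S.el_add, map_mul,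
          Module.End.mul_apply]) (a0 := u0) hM'x hu0
    obtain ⟨hp'AZ, t1, ht1⟩ := S.moved_word (T := A ++ Z1) hfa hbAZ hA' d.zab hia hp.1 hpmv
    set p' := π (S.nP hfa) p with hp'
    have hp'0 : p' ≠ 0 := S.act_ne π _ hp0
    have hp'a : ∀ t, ∃ k : ℂ, π (S.el d.zab t) p' = k • p' := by
      intro t
      have hz := nw_conj (Q := Q) hws (hA'.lt (r := a') (by simp))
        (((img D Q.K.w Q.K.sg wa a').2 : K) * (t : ℕ → K) a)
      rw [hia, ← mul_assoc, ← Int.cast_mul, img_sq, Int.cast_one, one_mul] at hz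
      obtain ⟨t', ht'⟩ := S.el_of_single hA' ((S.nP hfa)⁻¹ * S.el d.zab t * S.nP hfa)
        (k := ((img D Q.K.w Q.K.sg wa a').2 : K) * (t : ℕ → K) a) (by
          simp only [Subgroup.coe_mul, Subgroup.coe_inv, coe_el, xprod, List.map_singleton,
            List.prod_singleton, nP]
          rw [← hz]
          group)
      obtain ⟨k, hk⟩ := heig t'
      exact ⟨k, by rw [hp', S.move π, ← ht', hk, map_smul]⟩
    obtain ⟨ψ, hψ⟩ := D4Deg.exists_addChar π (S.el d.zab) (S.el_add d.zab) hp'0 hp'a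
    have hψ1 : ψ ≠ 1 := fun e => ht1 (by rw [hψ, e, AddChar.one_apply, one_smul])
    -- it is proportional to a torus translate of `v`
    obtain ⟨μ, hμ⟩ := d.exists_scale hψ1 hε
    have hp'A : p' ∈ S.Fx π A := S.Fx_anti π (fun r hr => List.mem_append_left _ hr) hp'AZ
    have hp'Z : p' ∈ S.Fx π Z1 := S.Fx_anti π (fun r hr => List.mem_append_right _ hr) hp'AZ
    have hAlt : ∀ r ∈ A, r < D.nroots := fun r hr => d.Aab.lt hr
    have hZlt : ∀ r ∈ Z1, r < D.nroots := by
      simp only [backB, Bool.and_eq_true, List.all_eq_true, decide_eq_true_eq] at hbAZ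
      exact fun r hr => (hbAZ.2 r (List.mem_append_right _ hr)).1.1.1
    obtain ⟨cμ, hcμ, hcz⟩ := d.torus (Units.map S.F.subtype.toMonoidHom μ) (μ : S.F).2
    set g := S.tP cμ hcμ with hg
    have hgM : π g p' ∈ d.M π (S.Fx π Z1) ε := by
      refine ⟨S.Fx_torus π hZlt cμ hcμ hp'Z, fun u => S.Fx_el π d.Aab (fun _ h => h) u
        (S.Fx_torus π hAlt cμ hcμ hp'A), fun s => ?_⟩
      have e : g⁻¹ * S.el d.zab s * g = S.el d.zab (S.mulF [a] ((μ⁻¹ : S.Fˣ) : S.F) s) := by
        refine Subtype.ext ?_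
        simp only [Subgroup.coe_mul, Subgroup.coe_inv, coe_el, hg, tP, xprod, List.map_singleton,
          List.prod_singleton, mulF_apply]
        have e := tG_conj Q cμ han ((((μ⁻¹ : S.Fˣ) : S.F) : K) * (s : ℕ → K) a)
        rw [hcz] at e
        rw [mul_assoc, inv_mul_eq_iff_eq_mul]
        rw [mul_inv_eq_iff_eq_mul] at e
        rw [e]
        congr 2
        show (s : ℕ → K) a = ((μ : S.F) : K) * ((((μ⁻¹ : S.Fˣ) : S.F) : K) * (s : ℕ → K) a)
        rw [← mul_assoc, ← Subfield.coe_mul, ← Units.val_mul, mul_inv_cancel]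
        simp
      rw [S.move π, e, hψ, map_smul]
      congr 1
      exact hμ s
    set M := d.M π (S.Fx π Z1) ε
    have hne : (⟨v, hv⟩ : M) ≠ 0 := fun e => hv0 (congrArg Subtype.val e)
    have h1 : finrank ℂ M = 1 :=
      le_antisymm hdim (Module.finrank_pos_iff_exists_ne_zero.2 ⟨_, hne⟩)
    obtain ⟨k, hk⟩ := (finrank_eq_one_iff_of_nonzero' _ hne).1 h1 ⟨_, hgM⟩
    have hk' : π g p' = k • v := (congrArg Subtype.val hk).symm
    -- so it is fixed by the second root, against the choice of `p`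
    have hp'b : ∀ s, π (S.el hBb s) p' = p' := fun s => by
      refine S.act_inj π g ?_
      have hmem : g * S.el hBb s * g⁻¹ ∈ S.PS Ta := by
        rw [mem_PS]
        simp only [Subgroup.coe_mul, Subgroup.coe_inv, coe_el, hg, tP, xprod, List.map_singleton,
          List.prod_singleton]
        rw [tG_conj Q cμ (hBb.lt (r := b) (by simp))]
        exact x_mem_XS (S := {r | r ∈ Ta}) hbTa _
      have e := hvT _ hmem
      rw [← Module.End.mul_apply, ← map_mul,
        show g * S.el hBb s = g * S.el hBb s * g⁻¹ * g by group, map_mul, Module.End.mul_apply,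
        hk', map_smul, e]
    obtain ⟨sd, hsd⟩ := AddChar.ne_one_iff.1 hδ1
    have hpc : π (S.el hC sd) p ≠ p := by
      rw [hp.2]
      exact fun e => hsd (smul_left_injective ℂ hp0 (e.trans (one_smul ℂ p).symm))
    obtain ⟨-, tb, htb⟩ := S.moved_word (T := A ++ Z1) hfa hbAZ hC hBb hib hp.1 hpc
    exact htb (hp'b tb)
  -- the vector
  obtain ⟨sd, hsd⟩ := AddChar.ne_one_iff.1 hδ1
  have hxmv : π (S.el hC sd) x ≠ x := by
    rw [hxc]
    exact fun e => hsd (smul_left_injective ℂ hx0 (e.trans (one_smul ℂ x).symm))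
  obtain ⟨hx', tb, htb⟩ := S.moved_word (T := Tab) hfa hbTab hC hBb hib hxR hxmv
  refine ⟨π (S.nP hfa) x, S.mem_Fx π hnTb fun r hr => ?_, hBb, tb, htb⟩
  rcases hTb r hr with rfl | ⟨h1, h2⟩
  · rw [S.orb_fixed hτa]
    intro hr' u
    have hz := nw_conj (Q := Q) hws (hA'.lt (r := a') (by simp))
      (((img D Q.K.w Q.K.sg wa a').2 : K) * (u : ℕ → K) r)
    rw [hia, ← mul_assoc, ← Int.cast_mul, img_sq, Int.cast_one, one_mul] at hz
    obtain ⟨t', ht'⟩ := S.el_of_single hA' ((S.nP hfa)⁻¹ * S.el hr' u * S.nP hfa)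
      (k := ((img D Q.K.w Q.K.sg wa a').2 : K) * (u : ℕ → K) r) (by
        simp only [Subgroup.coe_mul, Subgroup.coe_inv, coe_el, xprod, List.map_singleton,
          List.prod_singleton, nP]
        rw [← hz]
        group)
    rw [S.move π, ← ht', hfix]
  · refine S.Triv_of_Fx π hx' fun z hz => ?_
    unfold orb at hz
    split at hz <;> simp only [List.mem_cons, List.not_mem_nil, or_false] at hz
    · exact hz ▸ h1
    · rcases hz with rfl | rfl
      exacts [h1, h2]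

end Setup

end Cfsg.Agent.H38.HeisDeg
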